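import Cfsg.Agent.Lib.OddOrder.TypeOne
import Cfsg.Prelude.Def_OddOrderLocal

/-!
# The configuration of Peterfalvi (12.8)-(12.11)

What the local analysis yields from a type I subgroup that is not a Frobenius group.

Owner: helper8.
-/

set_option autoImplicit false

namespace Cfsg.Agent.Lib.OddOrder.PF12

universe u

/-- `M` type I, `L` a Frobenius type I subgroup over an element `x` of order `p` of `M`. -/
structure Config {G : Type u} [Group G] (p : ℕ) (M L : Subgroup G) (x y₀ : G) : Prop where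
  prime : p.Prime
  coatom_M : IsCoatom M
  coatom_L : IsCoatom L
  typeI_M : Cfsg.Agent.Lib.OddOrder.TypeOne.IsTypeI M
  typeI_L : Cfsg.Agent.Lib.OddOrder.TypeOne.IsTypeI L
  frob : ∀ z ∈ Cfsg.fittingHallOf L, z ≠ 1 →
    L ⊓ Subgroup.centralizer ({z} : Set G) ≤ Cfsg.fittingHallOf L
  not_conj : ∀ g : G, L.map (MulAut.conj g).toMonoidHom ≠ M
  x_mem : x ∈ Cfsg.fittingHallOf L
  order_x : orderOf x = p
  x_mem_M : x ∈ M
  cent_le : Subgroup.centralizer ({x} : Set G) ≤ M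
  not_cent_le : ¬ Subgroup.centralizer ({x} : Set G) ≤ L
  unique : ∀ N : Subgroup G, IsCoatom N → Subgroup.centralizer ({x} : Set G) ≤ N → N = M
  exists_c : ∃ c ∈ Cfsg.fittingHallOf M, x * c = c * x ∧
    c ∉ ⁅Cfsg.fittingHallOf M, Cfsg.fittingHallOf M⁆
  not_dvd : ¬ p ∣ Nat.card (Cfsg.fittingHallOf M)
  index_le : (Cfsg.fittingHall M).index ≤ Nat.card (Cfsg.fittingHall L)
  y_mem : y₀ ∈ M
  order_y : orderOf y₀ = p
  comm : x * y₀ = y₀ * x
  fpf : ∀ k ∈ Cfsg.fittingHallOf M, y₀ * k = k * y₀ → k = 1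
  bound : ((Cfsg.fittingHall L).index + 1) ^ 2 < Nat.card (Cfsg.fittingHall L)
  arith : ∀ a : ℤ, (p : ℤ) ∣ a - (Cfsg.fittingHall L).index →
    ((Cfsg.fittingHall L).index : ℤ) * (p + 1) < a ^ 2 * p

end Cfsg.Agent.Lib.OddOrder.PF12
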