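import Cfsg.Agent.Lib.Characters.Linear
import Cfsg.Agent.Lib.Induced.Basic
import Cfsg.Agent.Lib.Isometry.Inner
import Cfsg.Agent.S1494
import Cfsg.Agent.S1495

/-!
# Congruences of algebraic integers modulo `1 - exp (2πi/p)`

`Cong p a b` : `a - b` is `1 - ζ` times an algebraic integer.  Sums over a set permuted by a
permutation of order dividing `p` reduce to the fixed points.

Owner: helper8.
-/

set_option autoImplicit false

namespace Cfsg.Agent.Lib.OddOrder.PF12.Cong

open scoped Classical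

/-- The congruence modulo `1 - exp (2πi/p)`. -/
def Cong (p : ℕ) (a b : ℂ) : Prop :=
  ∃ ω : ℂ, IsIntegral ℤ ω ∧ a - b = (1 - Complex.exp (2 * Real.pi * Complex.I / p)) * ω

variable {p : ℕ}

theorem refl (a : ℂ) : Cong p a a := ⟨0, isIntegral_zero, by ring⟩

theorem symm {a b : ℂ} (h : Cong p a b) : Cong p b a :=
  let ⟨w, hw, e⟩ := h; ⟨-w, hw.neg, by linear_combination -e⟩

theorem trans {a b c : ℂ} (h : Cong p a b) (h' : Cong p b c) : Cong p a c :=
  let ⟨w, hw, e⟩ := h; let ⟨w', hw', e'⟩ := h'; ⟨w + w', hw.add hw', by linear_combination e + e'⟩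

theorem add {a b c d : ℂ} (h : Cong p a b) (h' : Cong p c d) : Cong p (a + c) (b + d) :=
  let ⟨w, hw, e⟩ := h; let ⟨w', hw', e'⟩ := h'; ⟨w + w', hw.add hw', by linear_combination e + e'⟩

theorem mul_left {a b c : ℂ} (hc : IsIntegral ℤ c) (h : Cong p a b) : Cong p (c * a) (c * b) :=
  let ⟨w, hw, e⟩ := h; ⟨c * w, hc.mul hw, by linear_combination c * e⟩

theorem mul_right {a b c : ℂ} (hc : IsIntegral ℤ c) (h : Cong p a b) : Cong p (a * c) (b * c) := by
  rw [mul_comm a, mul_comm b]; exact mul_left hc h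

theorem sum {ι : Type*} (s : Finset ι) {f g : ι → ℂ} (h : ∀ i ∈ s, Cong p (f i) (g i)) :
    Cong p (∑ i ∈ s, f i) (∑ i ∈ s, g i) := by
  induction s using Finset.induction_on with
  | empty => exact refl _
  | insert a s ha ih =>
    rw [Finset.sum_insert ha, Finset.sum_insert ha]
    exact add (h a (Finset.mem_insert_self a s)) (ih fun i hi => h i (Finset.mem_insert_of_mem hi))

theorem natCast_self (hp : p.Prime) : Cong p (p : ℂ) 0 := by
  haveI : NeZero p := ⟨hp.ne_zero⟩
  set ε := Complex.exp (2 * Real.pi * Complex.I / p) with hε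
  have hprim : IsPrimitiveRoot ε p := Complex.isPrimitiveRoot_exp p hp.ne_zero
  refine ⟨∑ i ∈ Finset.range p, ∑ j ∈ Finset.range i, ε ^ j,
    IsIntegral.sum _ fun i _ => IsIntegral.sum _ fun j _ => (hprim.isIntegral hp.pos).pow j, ?_⟩
  rw [Finset.mul_sum, ← hε, sub_zero, Finset.sum_congr rfl fun i _ => mul_neg_geom_sum ε i,
    Finset.sum_sub_distrib, hprim.geom_sum_eq_zero hp.one_lt]
  simp

theorem intCast_mul_self (hp : p.Prime) {c : ℂ} (hc : IsIntegral ℤ c) : Cong p (p * c) 0 := by
  simpa using mul_right hc (natCast_self hp)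

theorem dvd_sub {m n : ℤ} (hp : p.Prime) (h : Cong p (m : ℂ) (n : ℂ)) : (p : ℤ) ∣ m - n :=
  let ⟨w, hw, e⟩ := h
  Cfsg.Agent.S1495.result p hp (m - n) w hw (by push_cast; exact e)

theorem of_dvd {m n : ℤ} (hp : p.Prime) (h : (p : ℤ) ∣ m - n) : Cong p (m : ℂ) (n : ℂ) := by
  obtain ⟨c, hc⟩ := h
  obtain ⟨w, hw, e⟩ := intCast_mul_self hp (c := (c : ℂ)) (isIntegral_algebraMap (x := c))
  refine ⟨w, hw, ?_⟩
  rw [← e, sub_zero]
  exact_mod_cast hc

theorem of_dvd_nat {m n : ℕ} (hp : p.Prime) (h : (p : ℤ) ∣ (m : ℤ) - n) :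
    Cong p (m : ℂ) (n : ℂ) := by
  have := of_dvd hp h
  simpa using this

/-- A generalized character takes congruent values at `y` and `x y`, `x` of order `p` commuting
with `y`. -/
theorem gen_mul {G : Type*} [Group G] [Finite G] {χ : G → ℂ} (hχ : Cfsg.IsGeneralizedCharacter G χ)
    (hp : p.Prime) {x y : G} (hx : orderOf x = p) (hxy : x * y = y * x) :
    Cong p (χ (x * y)) (χ y) :=
  Cfsg.Agent.S1494.result χ hχ p hp x y hx hxy

/-- Sum over a set permuted by `σ` with `σ ^ p = 1`: only the fixed points count. -/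
theorem sum_fixed {α : Type*} (hp : p.Prime) (σ : Equiv.Perm α) (hσ : σ ^ p = 1) (s : Finset α)
    (hs : ∀ a ∈ s, σ a ∈ s) {f : α → ℂ} (hf : ∀ a ∈ s, f (σ a) = f a)
    (hint : ∀ a ∈ s, IsIntegral ℤ (f a)) :
    Cong p (∑ a ∈ s, f a) (∑ a ∈ s.filter (fun a => σ a = a), f a) := by
  induction hn : s.card using Nat.strong_induction_on generalizing s with
  | _ n ih =>
    by_cases hall : ∀ a ∈ s, σ a = a
    · rw [Finset.filter_true_of_mem hall]; exact refl _
    push Not at hall
    obtain ⟨a, ha, hne⟩ := hall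
    have hpow : ∀ i : ℕ, (σ ^ i) a ∈ s := by
      intro i
      induction i with
      | zero => simpa using ha
      | succ i hi => rw [pow_succ', Equiv.Perm.mul_apply]; exact hs _ hi
    have hval : ∀ i : ℕ, f ((σ ^ i) a) = f a := by
      intro i
      induction i with
      | zero => simp
      | succ i hi => rw [pow_succ', Equiv.Perm.mul_apply, hf _ (hpow i), hi]
    set O := (Finset.range p).image fun i => (σ ^ i) a with hO
    have hinj : Set.InjOn (fun i : ℕ => (σ ^ i) a) (Finset.range p) := by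
      intro i hi j hj hij
      simp only [Finset.coe_range, Set.mem_Iio] at hi hj
      simp only at hij
      by_contra hne'
      wlog hlt : i < j generalizing i j
      · exact this hij.symm hj hi (Ne.symm hne') (by omega)
      have hd : (σ ^ (j - i)) a = a := by
        apply (σ ^ i).injective
        rw [← Equiv.Perm.mul_apply, ← pow_add, show i + (j - i) = j by omega, hij]
      have hcop : Nat.Coprime (j - i) p :=
        (hp.coprime_iff_not_dvd.2 (Nat.not_dvd_of_pos_of_lt (by omega) (by omega))).symm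
      obtain ⟨m, -, hm⟩ := Nat.exists_mul_mod_eq_one_of_coprime hcop hp.one_lt
      refine hne ?_
      have e : (σ ^ ((j - i) * m)) a = a := by
        rw [pow_mul]
        generalize hτ : σ ^ (j - i) = τ at hd
        clear hm
        induction m with
        | zero => simp
        | succ m hm' => rw [pow_succ, Equiv.Perm.mul_apply, hd, hm']
      rwa [← Nat.div_add_mod ((j - i) * m) p, hm, pow_add, pow_mul, hσ, one_pow, one_mul,
        pow_one] at e
    have hOs : O ⊆ s := by
      intro b hb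
      obtain ⟨i, -, rfl⟩ := Finset.mem_image.1 hb
      exact hpow i
    have hOcard : O.card = p := by rw [hO, Finset.card_image_of_injOn hinj, Finset.card_range]
    have hfix : ∀ b ∈ O, σ b ≠ b := by
      intro b hb e
      obtain ⟨i, -, rfl⟩ := Finset.mem_image.1 hb
      apply hne
      apply (σ ^ i).injective
      rw [← Equiv.Perm.mul_apply, ← pow_succ, pow_succ', Equiv.Perm.mul_apply]
      exact e
    have hrest : ∀ b ∈ s \ O, σ b ∈ s \ O := by
      intro b hb
      rw [Finset.mem_sdiff] at hb ⊢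
      refine ⟨hs b hb.1, fun h => hb.2 ?_⟩
      obtain ⟨i, -, hi⟩ := Finset.mem_image.1 h
      have e : b = (σ ^ (p - 1 + i)) a := by
        rw [pow_add, Equiv.Perm.mul_apply, hi, ← Equiv.Perm.mul_apply, ← pow_succ,
          Nat.sub_add_cancel hp.one_le, hσ, Equiv.Perm.one_apply]
      refine Finset.mem_image.2 ⟨(p - 1 + i) % p, Finset.mem_range.2 (Nat.mod_lt _ hp.pos), ?_⟩
      rw [e]
      conv_rhs => rw [← Nat.div_add_mod (p - 1 + i) p, pow_add, pow_mul, hσ, one_pow, one_mul]
    have hlt : (s \ O).card < n := by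
      rw [← hn]
      exact Finset.card_lt_card (Finset.sdiff_ssubset hOs ⟨_, Finset.mem_image.2 ⟨0, Finset.mem_range.2 hp.pos, rfl⟩⟩)
    have h1 := ih _ hlt (s \ O) hrest (fun b hb => hf b (Finset.mem_sdiff.1 hb).1)
      (fun b hb => hint b (Finset.mem_sdiff.1 hb).1) rfl
    rw [← Finset.sum_sdiff hOs]
    have h2 : Cong p (∑ b ∈ O, f b) 0 := by
      rw [Finset.sum_congr rfl (g := fun _ => f a) (fun b hb => by
        obtain ⟨i, -, rfl⟩ := Finset.mem_image.1 hb
        exact hval i), Finset.sum_const, hOcard, nsmul_eq_mul]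
      exact intCast_mul_self hp (hint a ha)
    have h3 := add h1 h2
    rw [add_zero] at h3
    refine trans h3 ?_
    rw [show (s \ O).filter (fun b => σ b = b) = s.filter (fun b => σ b = b) from ?_]
    · exact refl _
    ext b
    simp only [Finset.mem_filter, Finset.mem_sdiff]
    exact ⟨fun h => ⟨h.1.1, h.2⟩, fun h => ⟨⟨h.1, fun hb => hfix b hb h.2⟩, h.2⟩⟩

end Cfsg.Agent.Lib.OddOrder.PF12.Cong
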