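import Cfsg.Agent.Lib.OddOrder.TypeOne
import Cfsg.Agent.Lib.OddOrder.PF8.TypeP
import Cfsg.Agent.Lib.OddOrder.Interface.PF8
import Cfsg.Agent.Lib.Isometry.DadeGen
import Cfsg.Prelude.Def_OddOrderChar

/-!
# Type I subgroups, averages over `R(a)`, linearity of the Dade map

Owner: helper8.
-/

set_option autoImplicit false

namespace Cfsg.Agent.Lib.OddOrder.PF12.Avg

open scoped ComplexConjugate Classical
open Cfsg.Agent.Lib.Isometry

universe u

variable {G : Type u} [Group G]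

theorem typeCore_eq [Finite G] {M : Subgroup G} (hI : Cfsg.Agent.Lib.OddOrder.TypeOne.IsTypeI M) :
    Cfsg.typeCore M = Cfsg.fittingHallOf M := by
  rw [Cfsg.typeCore, if_neg]
  rintro (k | k)
  · exact PF8.TypeP.not_typeI (PF8.TypeP.isOfTypeP_of (Or.inr (Or.inl k))) hI
  · exact PF8.TypeP.not_typeI (PF8.TypeP.isOfTypeP_of (Or.inr (Or.inr (Or.inl k)))) hI

theorem mem_typeA {M : Subgroup G} (hI : Cfsg.Agent.Lib.OddOrder.TypeOne.IsTypeI M) {a : G} :
    a ∈ Cfsg.Agent.Lib.OddOrder.TypeOne.typeA M ↔ a ∈ M ∧ a ≠ 1 ∧ ∃ x ∈ Cfsg.fittingHallOf M, x ≠ 1 ∧ a * x = x * a := by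
  rw [Cfsg.Agent.Lib.OddOrder.TypeOne.typeA, if_pos hI]; rfl

theorem mem_typeA1 [Finite G] {M : Subgroup G} (hI : Cfsg.Agent.Lib.OddOrder.TypeOne.IsTypeI M) {a : G} :
    a ∈ Cfsg.typeA1 M ↔ a ∈ Cfsg.fittingHallOf M ∧ a ≠ 1 := by
  rw [Cfsg.typeA1, typeCore_eq hI]; simp

theorem typeA1_subset [Finite G] {M : Subgroup G} (hI : Cfsg.Agent.Lib.OddOrder.TypeOne.IsTypeI M) {a : G}
    (ha : a ∈ Cfsg.typeA1 M) : a ∈ Cfsg.Agent.Lib.OddOrder.TypeOne.typeA M := by
  obtain ⟨h, h1⟩ := (mem_typeA1 hI).1 ha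
  exact (mem_typeA hI).2 ⟨Subgroup.map_subtype_le _ h, h1, a, h, h1, rfl⟩

theorem mem_fittingHall {M : Subgroup G} {x : M} :
    x ∈ Cfsg.fittingHall M ↔ (x : G) ∈ Cfsg.fittingHallOf M :=
  (Subgroup.mem_map_iff_mem M.subtype_injective).symm

/-- A support in the sense of the Dade map is a `tilde` set. -/
theorem support_eq (M : Subgroup G) (A : Set G) :
    Dade.support A (Cfsg.supportR M) = Cfsg.tildeOf M A := by
  ext g
  constructor
  · rintro ⟨a, ha, u, hu, x, e⟩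
    exact ⟨a, ha, u, hu, x⁻¹, by rw [← e]; group⟩
  · rintro ⟨a, ha, u, hu, y, e⟩
    exact ⟨a, ha, u, hu, y⁻¹, by rw [e]; group⟩

/-- The Dade map as a linear map. -/
noncomputable def dadeLin (A : Set G) (L : Subgroup G) (H : G → Subgroup G) :
    (L → ℂ) →ₗ[ℂ] (G → ℂ) where
  toFun := Cfsg.dadeIsometry A L H
  map_add' a b := by
    funext g
    simp only [Cfsg.dadeIsometry, Pi.add_apply]
    split_ifs <;> simp
  map_smul' c a := by
    funext g
    simp only [Cfsg.dadeIsometry, Pi.smul_apply, RingHom.id_apply]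
    split_ifs <;> simp

theorem dadeLin_apply (A : Set G) (L : Subgroup G) (H : G → Subgroup G) (α : L → ℂ) :
    dadeLin A L H α = Cfsg.dadeIsometry A L H α := rfl

/-- The function on `M` adjoint to `ψ`: averages over `R(a)` on `A(M)`, restriction elsewhere. -/
noncomputable def avg (M : Subgroup G) (ψ : G → ℂ) : M → ℂ := fun a =>
  if (a : G) ∈ Cfsg.Agent.Lib.OddOrder.TypeOne.typeA M then
    (Nat.card (Cfsg.supportR M a) : ℂ)⁻¹ * ∑ᶠ u ∈ (Cfsg.supportR M a : Set G), ψ ((a : G) * u)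
  else ψ a

theorem avg_eq_of_mem {M : Subgroup G} (ψ : G → ℂ) {a : M} (ha : (a : G) ∈ Cfsg.Agent.Lib.OddOrder.TypeOne.typeA M) :
    avg M ψ a =
      (Nat.card (Cfsg.supportR M a) : ℂ)⁻¹ * ∑ᶠ u ∈ (Cfsg.supportR M a : Set G), ψ ((a : G) * u) :=
  if_pos ha

theorem avg_classFun [Finite G] {M : Subgroup G}
    (hD : Cfsg.DadeHypothesis (Cfsg.Agent.Lib.OddOrder.TypeOne.typeA M) M (Cfsg.supportR M)) {ψ : G → ℂ}
    (hψ : Cfsg.IsClassFunction G ψ) : Cfsg.IsClassFunction M (avg M ψ) := by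
  intro a m
  have hiff : ((m * a * m⁻¹ : M) : G) ∈ Cfsg.Agent.Lib.OddOrder.TypeOne.typeA M ↔ (a : G) ∈ Cfsg.Agent.Lib.OddOrder.TypeOne.typeA M := by
    refine ⟨fun h => ?_, fun h => ?_⟩
    · have := hD.conj_mem (m : G)⁻¹ (inv_mem m.2) _ h
      simpa [mul_assoc] using this
    · simpa using hD.conj_mem (m : G) m.2 _ h
  by_cases ha : (a : G) ∈ Cfsg.Agent.Lib.OddOrder.TypeOne.typeA M
  · rw [avg_eq_of_mem ψ (hiff.2 ha), avg_eq_of_mem ψ ha, Subgroup.coe_mul, Subgroup.coe_mul,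
      Subgroup.coe_inv, TI.card_H_conj hD ha m.2, TI.map_H hD ha m.2]
    congr 1
    rw [Subgroup.coe_map, finsum_mem_image (Function.Injective.injOn
      (show Function.Injective (MulAut.conj (m : G)).toMonoidHom from (MulAut.conj (m : G)).injective))]
    refine finsum_mem_congr rfl fun u _ => ?_
    simp only [MulEquiv.coe_toMonoidHom, MulAut.conj_apply]
    rw [← hψ ((a : G) * u) (m : G)]
    congr 1
    group
  · rw [avg, avg, if_neg (fun h => ha (hiff.1 h)), if_neg ha]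
    simpa using hψ (a : G) (m : G)

variable [Fintype G]

/-- The adjoint property, on `A(M)` or a subset of it. -/
theorem classInner_dade {M : Subgroup G} [Fintype M] {A : Set G}
    (hD : Cfsg.DadeHypothesis A M (Cfsg.supportR M)) (hA : A ⊆ Cfsg.Agent.Lib.OddOrder.TypeOne.typeA M) {α : M → ℂ}
    (hα : Cfsg.IsClassFunction M α) (hαA : ∀ x : M, (x : G) ∉ A → α x = 0)
    {ψ : G → ℂ} (hψ : Cfsg.IsClassFunction G ψ) :
    Cfsg.classInner (Cfsg.dadeIsometry A M (Cfsg.supportR M) α) ψ =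
      Cfsg.classInner α (avg M ψ) :=
  Dade.classInner_dade hD hα hαA hψ fun a ha => avg_eq_of_mem ψ (hA ha)

end Cfsg.Agent.Lib.OddOrder.PF12.Avg
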