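import Mathlib
import Cfsg.Prelude.Def_Transfer
import Cfsg.Agent.Lib.Frobenius.FixedPointFree
import Cfsg.Agent.Lib.Frobenius.PGroupOdd

/-!
# Peterfalvi section 12: elementary group lemmas

Fixed-point-free action on a nilpotent subgroup: cosets, cyclic Sylow subgroups, exponent.

Owner: helper8.
-/

set_option autoImplicit false

namespace Cfsg.Agent.Lib.OddOrder.PF12.Group

open scoped IsMulCommutative

universe u

variable {G : Type u} [Group G] [Finite G]

/-- If `u` has no fixed point on `K`, neither has any element of `K u`. -/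
theorem coset_fixed {K : Subgroup G} {u : G} (hu : u ∈ Subgroup.normalizer (K : Set G))
    (hfix : ∀ h ∈ K, u * h = h * u → h = 1) {k : G} (hk : k ∈ K) {h : G} (hh : h ∈ K)
    (hc : k * u * h = h * (k * u)) : h = 1 := by
  have hconj : ∀ a ∈ K, u * a * u⁻¹ ∈ K := fun a ha => (Subgroup.mem_normalizer_iff.1 hu a).1 ha
  let f : K → K := fun a => ⟨(a : G)⁻¹ * (u * a * u⁻¹), mul_mem (inv_mem a.2) (hconj a a.2)⟩
  have hf : Function.Injective f := by
    intro a b hab
    have e : (a : G)⁻¹ * (u * a * u⁻¹) = (b : G)⁻¹ * (u * b * u⁻¹) := congrArg Subtype.val hab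
    refine Subtype.ext (mul_inv_eq_one.1 (hfix ((b : G) * (a : G)⁻¹)
      (mul_mem b.2 (inv_mem a.2)) ?_)).symm
    calc u * ((b : G) * (a : G)⁻¹) = (b : G) * ((b : G)⁻¹ * (u * b * u⁻¹)) * (u * (a : G)⁻¹) := by
          group
      _ = (b : G) * ((a : G)⁻¹ * (u * a * u⁻¹)) * (u * (a : G)⁻¹) := by rw [e]
      _ = (b : G) * (a : G)⁻¹ * u := by group
  obtain ⟨a, ha⟩ := (Finite.injective_iff_surjective.1 hf) ⟨k, hk⟩
  have ha' : (a : G)⁻¹ * (u * a * u⁻¹) = k := congrArg Subtype.val ha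
  have hc' : (a : G) * (k * u) * (a : G)⁻¹ = u := by rw [← ha']; group
  have h1 := hfix ((a : G) * h * (a : G)⁻¹) (mul_mem (mul_mem a.2 hh) (inv_mem a.2)) ?_
  · exact conj_eq_one_iff.1 h1
  · calc u * ((a : G) * h * (a : G)⁻¹)
        = (a : G) * (k * u) * (a : G)⁻¹ * ((a : G) * h * (a : G)⁻¹) := by rw [hc']
      _ = (a : G) * (k * u * h) * (a : G)⁻¹ := by group
      _ = (a : G) * (h * (k * u)) * (a : G)⁻¹ := by rw [hc]
      _ = (a : G) * h * (a : G)⁻¹ * ((a : G) * (k * u) * (a : G)⁻¹) := by group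
      _ = _ := by rw [hc']

/-- `A` acts without fixed points on `K`. -/
def IsFixFree (A K : Subgroup G) : Prop :=
  A ≤ Subgroup.normalizer (K : Set G) ∧ ∀ a ∈ A, a ≠ 1 → ∀ h ∈ K, a * h = h * a → h = 1

theorem IsFixFree.mono {A B K : Subgroup G} (h : IsFixFree A K) (hB : B ≤ A) : IsFixFree B K :=
  ⟨hB.trans h.1, fun a ha => h.2 a (hB ha)⟩

/-- The representation on the centre of a nilpotent subgroup. -/
theorem exists_abelian {A K : Subgroup G} (h : IsFixFree A K) (hK : K ≠ ⊥)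
    (hnil : Group.IsNilpotent K) :
    ∃ (V : Type u) (_ : CommGroup V) (_ : Finite V) (_ : Nontrivial V) (ρ : A →* MulAut V),
      Cfsg.Agent.Lib.Frobenius.IsFPF ρ := by
  haveI := hnil
  haveI : Nontrivial K := (Subgroup.nontrivial_iff_ne_bot K).2 hK
  set V := (Subgroup.center K).map K.subtype with hV
  haveI : IsMulCommutative V := by
    refine ⟨⟨?_⟩⟩
    rintro ⟨_, a, ha, rfl⟩ ⟨_, b, -, rfl⟩
    exact Subtype.ext (congrArg Subtype.val (Subgroup.mem_center_iff.1 ha b)).symm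
  have hVK : V ≤ K := Subgroup.map_subtype_le _
  have hAV : A ≤ Subgroup.normalizer (V : Set G) := by
    have key : ∀ a ∈ A, ∀ x ∈ V, a * x * a⁻¹ ∈ V := by
      rintro a ha _ ⟨⟨x, hx⟩, hxc, rfl⟩
      refine ⟨⟨a * x * a⁻¹, (Subgroup.mem_normalizer_iff.1 (h.1 ha) x).1 hx⟩,
        Subgroup.mem_center_iff.2 fun y => Subtype.ext ?_, rfl⟩
      have hy : a⁻¹ * y * a ∈ K := by
        have := (Subgroup.mem_normalizer_iff.1 (h.1 (inv_mem ha)) (y : G)).1 y.2
        rwa [inv_inv] at this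
      have e : a⁻¹ * y * a * x = x * (a⁻¹ * y * a) :=
        congrArg Subtype.val (Subgroup.mem_center_iff.1 hxc ⟨_, hy⟩)
      show (y : G) * (a * x * a⁻¹) = a * x * a⁻¹ * y
      calc (y : G) * (a * x * a⁻¹) = a * (a⁻¹ * y * a * x) * a⁻¹ := by group
        _ = _ := by rw [e]; group
    intro a ha
    rw [Subgroup.mem_normalizer_iff]
    refine fun x => ⟨key a ha x, fun hx => ?_⟩
    have := key a⁻¹ (inv_mem ha) _ hx
    simpa [mul_assoc] using this
  have hne : V ≠ ⊥ := by
    rw [hV, ne_eq, Subgroup.map_eq_bot_iff_of_injective _ K.subtype_injective]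
    exact Group.IsNilpotent.center_ne_bot K
  refine ⟨V, inferInstance, inferInstance, (Subgroup.nontrivial_iff_ne_bot V).2 hne, _,
    Cfsg.Agent.Lib.Frobenius.isFPF_conj hAV fun a ha ha1 => (Subgroup.eq_bot_iff_forall _).2 ?_⟩
  rintro x ⟨hx, hc⟩
  exact h.2 a ha ha1 x (hVK hx) (Subgroup.mem_centralizer_singleton_iff.1 hc).symm

/-- A commutative fixed-point-free group of automorphisms of a nilpotent group is cyclic. -/
theorem isCyclic_of_commutative {A K : Subgroup G} [IsMulCommutative A] (h : IsFixFree A K)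
    (hK : K ≠ ⊥) (hnil : Group.IsNilpotent K) : IsCyclic A := by
  obtain ⟨V, _, _, _, ρ, hρ⟩ := exists_abelian h hK hnil
  exact hρ.isCyclic_of_commutative

/-- An odd `p`-group acting fixed-point-freely is cyclic. -/
theorem isCyclic_of_pGroup {p : ℕ} [hp : Fact p.Prime] (hp2 : p ≠ 2) {P K : Subgroup G}
    (hP : IsPGroup p P) (h : IsFixFree P K) (hK : K ≠ ⊥) (hnil : Group.IsNilpotent K) :
    IsCyclic P := by
  by_contra hnc
  obtain ⟨E, -, hE, hcard⟩ := Cfsg.Agent.Lib.Frobenius.PGroupOdd.exists_normal_elemAb hP hp2 hnc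
  set E' := E.map P.subtype with hE'
  haveI : IsMulCommutative E' := by
    haveI := hE.1
    infer_instance
  have := isCyclic_of_commutative (h.mono (Subgroup.map_subtype_le E)) hK hnil
  have hc : Nat.card E' = p ^ 2 := by
    rw [hE', Subgroup.card_map_of_injective P.subtype_injective, hcard]
  obtain ⟨g, hg⟩ := IsCyclic.exists_ofOrder_eq_natCard (α := E')
  obtain ⟨x, hx, hgx⟩ := Subgroup.mem_map.1 g.2
  have hpow : g ^ p = 1 := by
    apply Subtype.ext
    rw [Subgroup.coe_pow, ← hgx, ← map_pow, hE.2 x hx, map_one, Subgroup.coe_one]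
  have hd := Nat.le_of_dvd hp.out.pos (orderOf_dvd_of_pow_eq_one hpow)
  rw [hg, hc] at hd
  nlinarith [hp.out.one_lt]

/-- In a fixed-point-free group subgroups of order `p q` are cyclic. -/
theorem commute_of_normalizes {A K : Subgroup G} (h : IsFixFree A K) (hK : K ≠ ⊥)
    (hnil : Group.IsNilpotent K) {p q : ℕ} (hp : p.Prime) (hq : q.Prime) (hpq : p ≠ q)
    {y z : G} (hyA : y ∈ A) (hzA : z ∈ A) (hy : orderOf y = p) (hz : orderOf z = q)
    (hzy : z ∈ Subgroup.normalizer (Subgroup.zpowers y : Set G)) : Commute y z := by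
  set L := Subgroup.zpowers y ⊔ Subgroup.zpowers z with hL
  have hLA : L ≤ A := sup_le (Subgroup.zpowers_le.2 hyA) (Subgroup.zpowers_le.2 hzA)
  obtain ⟨V, _, _, _, ρ, hρ⟩ := exists_abelian (h.mono hLA) hK hnil
  have hcy : Nat.card (Subgroup.zpowers y) = p := by rw [Nat.card_zpowers, hy]
  have hcz : Nat.card (Subgroup.zpowers z) = q := by rw [Nat.card_zpowers, hz]
  have hdis : Disjoint (Subgroup.zpowers y) (Subgroup.zpowers z) :=
    Subgroup.disjoint_of_coprime_natCard (by rw [hcy, hcz]; exact (Nat.coprime_primes hp hq).2 hpq)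
  have hcard : Nat.card L = p * q := by
    rw [← hcy, ← hcz, ← Nat.card_prod]
    refine (Nat.card_eq_of_bijective (fun x : Subgroup.zpowers y × Subgroup.zpowers z =>
      (⟨x.1 * x.2, mul_mem (Subgroup.mem_sup_left x.1.2) (Subgroup.mem_sup_right x.2.2)⟩ : L))
      ⟨?_, ?_⟩).symm
    · intro a b hab
      exact Subgroup.mul_injective_of_disjoint hdis (congrArg Subtype.val hab)
    · rintro ⟨x, hx⟩
      have hx' : x ∈ (L : Set G) := hx
      rw [hL, Subgroup.coe_mul_of_right_le_normalizer_left _ _ (Subgroup.zpowers_le.2 hzy)] at hx'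
      obtain ⟨a, ha, b, hb, rfl⟩ := hx'
      exact ⟨(⟨a, ha⟩, ⟨b, hb⟩), rfl⟩
  haveI := hρ.isCyclic_of_card_eq_mul hp hq hcard
  exact congrArg Subtype.val ((IsCyclic.commGroup (α := L)).mul_comm
    ⟨y, Subgroup.mem_sup_left (Subgroup.mem_zpowers y)⟩ ⟨z, Subgroup.mem_sup_right (Subgroup.mem_zpowers z)⟩)

/-- If all Sylow subgroups are cyclic, the exponent is the order. -/
theorem card_dvd_exponent {X : Type u} [_root_.Group X] [Finite X]
    (h : ∀ p : ℕ, p.Prime → p ∣ Nat.card X → ∀ P : Sylow p X, IsCyclic P) :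
    Nat.card X ∣ Monoid.exponent X := by
  refine Nat.dvd_iff_prime_pow_dvd_dvd _ _ |>.2 fun p k hp hk => ?_
  rcases Nat.eq_zero_or_pos k with rfl | hk0
  · simp
  haveI := Fact.mk hp
  obtain ⟨P⟩ : Nonempty (Sylow p X) := inferInstance
  haveI := h p hp ((dvd_pow_self p hk0.ne').trans hk) P
  obtain ⟨g, hg⟩ := IsCyclic.exists_ofOrder_eq_natCard (α := P)
  have h1 : p ^ k ∣ orderOf (g : X) := by
    rw [Subgroup.orderOf_coe, hg, P.card_eq_multiplicity]
    exact pow_dvd_pow _ ((hp.pow_dvd_iff_le_factorization Nat.card_pos.ne').1 hk)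
  exact h1.trans (Monoid.order_dvd_exponent _)

/-- A subgroup of the same exponent as a group with cyclic Sylow subgroups is the whole group. -/
theorem eq_of_exponent_eq {U U₀ : Subgroup G} (hle : U₀ ≤ U)
    (hexp : Monoid.exponent U₀ = Monoid.exponent U)
    (h : ∀ p : ℕ, p.Prime → p ∣ Nat.card U → ∀ P : Sylow p U, IsCyclic P) : U₀ = U :=
  Subgroup.eq_of_le_of_card_ge hle (Nat.le_of_dvd Nat.card_pos
    (((card_dvd_exponent h).trans (hexp ▸ dvd_refl _)).trans Group.exponent_dvd_nat_card))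

end Cfsg.Agent.Lib.OddOrder.PF12.Group
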