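import Cfsg.Agent.Lib.OddOrder.TypeOne
import Cfsg.Agent.Lib.OddOrder.Interface.PF8
import Cfsg.Agent.Lib.OddOrder.Interface.PF12
import Cfsg.Agent.Lib.OddOrder.Basic
import Cfsg.Agent.Lib.OddOrder.MinSimple
import Cfsg.Agent.Lib.OddOrder.PF12.Group
import Cfsg.Agent.Lib.Isometry.SibleyOdd
import Cfsg.Agent.Lib.Isometry.KernelInduced
import Cfsg.Agent.Lib.Isometry.KernelCoherence
import Cfsg.Agent.Lib.Isometry.Dade
import Cfsg.Agent.Lib.Isometry.DadeGen
import Cfsg.Agent.S1514

/-!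
# Peterfalvi (12.6): coherence for a Frobenius type I subgroup

Owner: helper8.
-/

set_option autoImplicit false

namespace Cfsg.Agent.Lib.OddOrder.PF12.Coherent

open scoped Classical commutatorElement
open Cfsg.Agent.Lib.Isometry
open Cfsg.Agent.Lib.OddOrder.Interface

universe u

variable {G : Type u} [Group G] {L : Subgroup G}

theorem fittingHallOf_subgroupOf (L : Subgroup G) :
    (Cfsg.fittingHallOf L).subgroupOf L = Cfsg.fittingHall L :=
  Subgroup.comap_map_eq_self_of_injective L.subtype_injective _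

theorem mem_fittingHall_iff {x : L} : x ∈ Cfsg.fittingHall L ↔ (x : G) ∈ Cfsg.fittingHallOf L := by
  rw [← fittingHallOf_subgroupOf, Subgroup.mem_subgroupOf]

theorem centralizer_le (hfrob : ∀ x ∈ Cfsg.fittingHallOf L, x ≠ 1 →
      L ⊓ Subgroup.centralizer ({x} : Set G) ≤ Cfsg.fittingHallOf L) :
    ∀ k ∈ Cfsg.fittingHall L, k ≠ 1 →
      Subgroup.centralizer ({k} : Set L) ≤ Cfsg.fittingHall L := fun k hk hk1 y hy =>
  mem_fittingHall_iff.2 (hfrob (k : G) (mem_fittingHall_iff.1 hk) (fun e => hk1 (Subtype.ext e))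
    ⟨y.2, Subgroup.mem_centralizer_singleton_iff.2
      (congrArg Subtype.val (Subgroup.mem_centralizer_singleton_iff.1 hy))⟩)

theorem typeA_eq (hI : Cfsg.Agent.Lib.OddOrder.TypeOne.IsTypeI L) (hfrob : ∀ x ∈ Cfsg.fittingHallOf L, x ≠ 1 →
      L ⊓ Subgroup.centralizer ({x} : Set G) ≤ Cfsg.fittingHallOf L) :
    Cfsg.Agent.Lib.OddOrder.TypeOne.typeA L = (Cfsg.fittingHallOf L : Set G) \ {1} := by
  rw [Cfsg.Agent.Lib.OddOrder.TypeOne.typeA, if_pos hI]
  ext a
  simp only [Set.mem_setOf_eq, Set.mem_sdiff, SetLike.mem_coe, Set.mem_singleton_iff]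
  constructor
  · rintro ⟨haL, ha1, x, hx, hx1, hc⟩
    exact ⟨hfrob x hx hx1 ⟨haL, Subgroup.mem_centralizer_singleton_iff.2 hc⟩, ha1⟩
  · rintro ⟨ha, ha1⟩
    exact ⟨Subgroup.map_subtype_le _ ha, ha1, a, ha, ha1, rfl⟩

variable [Fintype G] [Fintype L]

theorem not_mem_typeA {x : L} (hI : Cfsg.Agent.Lib.OddOrder.TypeOne.IsTypeI L) (hfrob : ∀ x ∈ Cfsg.fittingHallOf L, x ≠ 1 →
      L ⊓ Subgroup.centralizer ({x} : Set G) ≤ Cfsg.fittingHallOf L) :
    (x : G) ∉ Cfsg.Agent.Lib.OddOrder.TypeOne.typeA L ↔ (x = 1 ∨ x ∉ Cfsg.fittingHall L) := by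
  rw [typeA_eq hI hfrob, mem_fittingHall_iff]
  simp only [Set.mem_sdiff, SetLike.mem_coe, Set.mem_singleton_iff, not_and, not_not,
    OneMemClass.coe_eq_one]
  tauto

/-- Combinations of the induced characters vanishing at `1` are supported on `A(L)`. -/
theorem supported (hI : Cfsg.Agent.Lib.OddOrder.TypeOne.IsTypeI L) (hfrob : ∀ x ∈ Cfsg.fittingHallOf L, x ≠ 1 →
      L ⊓ Subgroup.centralizer ({x} : Set G) ≤ Cfsg.fittingHallOf L) {α : L → ℂ}
    (hα : α ∈ Cfsg.zspanOn (Cfsg.inducedIrrAbove (Cfsg.fittingHall L) ⊥) {1}ᶜ) :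
    ∀ x : L, (x : G) ∉ Cfsg.Agent.Lib.OddOrder.TypeOne.typeA L → α x = 0 := by
  intro x hx
  rcases (not_mem_typeA hI hfrob).1 hx with rfl | hx'
  · exact hα.2 1 (by simp)
  · refine Submodule.span_induction ?_ rfl (fun a b _ _ ha hb => by rw [Pi.add_apply, ha, hb, add_zero])
      (fun n a _ ha => by rw [Pi.smul_apply, ha, smul_zero]) hα.1
    rintro _ ⟨θ, -, -, -, rfl⟩
    exact Induced.Basic.indFun_eq_zero_of_not_mem_normal _ θ hx'

theorem classFun_of_mem {α : L → ℂ}
    (hα : α ∈ Cfsg.zspan (Cfsg.inducedIrrAbove (Cfsg.fittingHall L) ⊥)) :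
    Cfsg.IsClassFunction L α := by
  refine Submodule.span_induction ?_ Characters.Complete.classFun_zero
    (fun a b _ _ ha hb => Characters.Complete.classFun_add ha hb)
    (fun n a _ ha => by rw [FrobeniusTI.zsmul_eq]; exact Characters.Complete.classFun_smul _ ha) hα
  rintro _ ⟨θ, -, -, -, rfl⟩
  exact Induced.Basic.isClassFunction_indFun _ θ

theorem dade_add {A : Set G} {H : G → Subgroup G} (a b : L → ℂ) :
    Cfsg.dadeIsometry A L H (a + b) = Cfsg.dadeIsometry A L H a + Cfsg.dadeIsometry A L H b := by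
  funext g
  simp only [Cfsg.dadeIsometry, Pi.add_apply]
  split_ifs <;> simp

theorem dade_zsmul {A : Set G} {H : G → Subgroup G} (a : L → ℂ) (n : ℤ) :
    Cfsg.dadeIsometry A L H (n • a) = n • Cfsg.dadeIsometry A L H a := by
  funext g
  simp only [Cfsg.dadeIsometry, Pi.smul_apply]
  split_ifs <;> simp

theorem dade_one {A : Set G} {H : G → Subgroup G} (hD : Cfsg.DadeHypothesis A L H) (a : L → ℂ) :
    Cfsg.dadeIsometry A L H a 1 = 0 := by
  refine Dade.dadeIsometry_eq_zero ?_
  rintro ⟨b, hb, v, hv, x, e⟩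
  rw [mul_one, mul_inv_cancel] at e
  have hv' : v = b⁻¹ := eq_inv_of_mul_eq_one_right e.symm
  have h1 : b⁻¹ ∈ H b ⊓ (L ⊓ Subgroup.centralizer ({b} : Set G)) :=
    ⟨hv' ▸ hv, Subgroup.inv_mem _ (hD.subset hb),
      Subgroup.inv_mem _ (Subgroup.mem_centralizer_singleton_iff.2 rfl)⟩
  rw [hD.inf_eq_bot b hb, Subgroup.mem_bot, inv_eq_one] at h1
  exact hD.one_not_mem (h1 ▸ hb)

/-- (12.6). -/
theorem step_12_6 (hG : Cfsg.IsMinSimpleOddOrder G) (h15 : PF8.Step_8_15 G) :
    PF12.Step_12_6 G := by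
  intro L _ hL hI hfrob
  set K := Cfsg.fittingHall L with hKdef
  have hC := centralizer_le hfrob
  have hne : K ≠ ⊥ := hI.1.2.2.1
  have htop : K ≠ ⊤ := hI.1.2.2.2.1
  have hodd : Odd (Nat.card L) := hI.1.2.1
  haveI hsolvL : Group.IsSolvable L := hI.1.1
  have hcoe := KernelInduced.coe_layer_eq K hC
  have hirr : ∀ χ ∈ Cfsg.inducedIrrAbove K ⊥, Cfsg.IsIrrCharacter L χ := fun χ hχ =>
    Layers.isIrr (K := K) (Finset.mem_coe.1 (by rw [hcoe]; exact hχ))
  refine ⟨hirr, ?_⟩
  obtain ⟨-, hD⟩ := h15 L hL (Cfsg.Agent.Lib.OddOrder.TypeOne.typeA L) (Or.inr (Or.inl rfl))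
  set τ := Cfsg.dadeIsometry (Cfsg.Agent.Lib.OddOrder.TypeOne.typeA L) L (Cfsg.supportR L) with hτdef
  have hτ : Cfsg.IsLinearIsometryOn (Cfsg.zspanOn (Cfsg.inducedIrrAbove K ⊥) {1}ᶜ) τ :=
    ⟨fun a _ b _ => dade_add a b, fun a _ n => dade_zsmul a n,
      fun a ha b hb => Dade.classInner_dade_dade hD (classFun_of_mem ha.1) (supported hI hfrob ha)
        (classFun_of_mem hb.1),
      fun a ha => DadeGen.gen_dade hD
        (Inner.gen_zspan (fun χ hχ => Inner.gen_of_irr (hirr χ hχ)) ha.1) (supported hI hfrob ha)⟩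
  have hH : (Cfsg.fittingHallOf L).subgroupOf L = K := fittingHallOf_subgroupOf L
  by_cases hTI : Cfsg.IsTISubset (Cfsg.fittingHallOf L : Set G)
  · -- induction agrees with the Dade map
    have hN : Subgroup.normalizer (Cfsg.fittingHallOf L : Set G) = L :=
      MinSimple.normalizer_eq_of_coatom hG hL (Subgroup.map_subtype_le _)
        (fun e => hne ((Subgroup.map_eq_bot_iff_of_injective _ L.subtype_injective).1 e))
        (Basic.fittingHallOf_normal L)
    have hTI' : ∀ g ∉ L, ∀ t ∈ Cfsg.fittingHallOf L, g * t * g⁻¹ ∈ Cfsg.fittingHallOf L → t = 1 :=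
      fun g hg t ht h => hTI g (by rw [hN]; exact hg) t ht h
    have hn : ((Cfsg.fittingHallOf L).subgroupOf L).Normal := by rw [hH]; infer_instance
    have hC' : ∀ k ∈ (Cfsg.fittingHallOf L).subgroupOf L, k ≠ 1 →
        Subgroup.centralizer ({k} : Set L) ≤ (Cfsg.fittingHallOf L).subgroupOf L := by
      rw [hH]; exact hC
    have hle' : Cfsg.fittingHallOf L ≤ L := Subgroup.map_subtype_le _
    have hcoh := SibleyOdd.coherent_odd hle' hTI' hC' hodd
      (by rw [hH]; exact hne) (by rw [hH]; exact htop)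
    rw [KernelInduced.coe_layer_eq _ hC', hH] at hcoh
    have hagree : ∀ α ∈ Cfsg.zspanOn (Cfsg.inducedIrrAbove K ⊥) {1}ᶜ, τ α = Cfsg.indFun L α := by
      intro α hα
      have hsupp : FrobeniusTI.Supp L (Cfsg.fittingHallOf L) α := by
        refine FrobeniusTI.supp_zspanOn hC' ?_
        rw [KernelInduced.coe_layer_eq _ hC', hH]
        exact hα
      funext g
      by_cases hg : g ∈ Dade.support (Cfsg.Agent.Lib.OddOrder.TypeOne.typeA L) (Cfsg.supportR L)
      · obtain ⟨a, ha, v, hv, x, e⟩ := hg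
        have hA := ha
        rw [typeA_eq hI hfrob] at hA
        obtain ⟨haH, ha1⟩ := hA
        have hv1 : v = 1 := by
          have hle : Subgroup.centralizer ({a} : Set G) ≤ L := by
            intro c hc
            by_contra hcL
            refine ha1 (hTI' c hcL a haH ?_)
            rwa [Subgroup.mem_centralizer_singleton_iff.1 hc, mul_inv_cancel_right]
          rw [Cfsg.supportR, dif_neg (fun h => h.1 hle), Subgroup.mem_bot] at hv
          exact hv
        subst hv1
        rw [mul_one] at e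
        show Cfsg.dadeIsometry (Cfsg.Agent.Lib.OddOrder.TypeOne.typeA L) L (Cfsg.supportR L) α g = _
        rw [Dade.dadeIsometry_apply hD (classFun_of_mem hα.1) (u := 1) (a := ⟨a, hD.subset ha⟩) ha
          (one_mem _) (by rw [mul_one]; exact e)]
        rw [← Induced.Basic.isClassFunction_indFun L α g x, e]
        exact (FrobeniusTI.indFun_apply hTI' hsupp (x := ⟨a, hD.subset ha⟩)
          (Subgroup.mem_subgroupOf.2 haH) (fun h => ha1 (congrArg Subtype.val h))).symm
      · rw [hτdef, Dade.dadeIsometry_eq_zero hg]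
        symm
        by_contra hne'
        obtain ⟨hg1, x, hx⟩ := FrobeniusTI.indFun_support hsupp hne'
        refine hg ⟨x * g * x⁻¹, ?_, 1, one_mem _, x, (mul_one _).symm⟩
        rw [typeA_eq hI hfrob]
        exact ⟨hx, fun h => hg1 (conj_eq_one_iff.1 h)⟩
    obtain ⟨hex, T, hT, hag⟩ := hcoh
    refine ⟨hex, T, by convert hT, fun α hα => (hag α hα).trans ?_⟩
    convert (hagree α hα).symm
  -- the coherence system
  obtain ⟨R, hS⟩ := Cfsg.Agent.S1514.result (Cfsg.inducedIrrAbove K ⊥)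
    (by rw [← hcoe]; exact Inflate.layer_nonempty (bot_lt_iff_ne_bot.2 hne)) hirr
    (fun χ hχ => by
      rw [← hcoe] at hχ ⊢
      refine ⟨Inflate.conj_mem_layer hχ, fun hreal => ?_⟩
      obtain ⟨h, -, g, hg, hne'⟩ := Inflate.mem_layer.1 (Finset.mem_coe.1 hχ)
      have := Characters.Indicator.eq_oneChar_of_real hodd ⟨χ, h⟩
        fun x => Complex.conj_eq_iff_im.1 (congrFun hreal x)
      exact hne' (by rw [show χ = _ from congrArg Subtype.val this]; rfl))
    τ hτ (fun a _ => dade_one hD a)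
  have hnilK : Group.IsNilpotent K := (Basic.fittingHall_spec L).1
  haveI := hnilK
  haveI hbot : ((⊥ : Subgroup L).subgroupOf K).Normal := by
    rw [Subgroup.bot_subgroupOf]; infer_instance
  have hder : ⁅K, K⁆ < K := by
    refine lt_of_le_of_ne (Subgroup.commutator_le_right K K) fun e => ?_
    haveI : Group.IsSolvable K := inferInstance
    haveI : Nontrivial K := (Subgroup.nontrivial_iff_ne_bot K).2 hne
    have h1 := Group.IsSolvable.commutator_lt_top_of_nontrivial K
    refine h1.ne ?_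
    apply Subgroup.map_injective K.subtype_injective
    rw [commutator_def, Subgroup.map_commutator, ← MonoidHom.range_eq_map, Subgroup.range_subtype, e]
  refine KernelCoherence.coherent_main (by infer_instance) hS hodd ⊥ bot_le
    (by infer_instance) ⁅K, K⁆ (sup_bot_eq _).symm hder (lt_top_iff_ne_top.2 htop) ?_ ?_
  · -- Frobenius modulo `K'`
    intro k hk hk' x hxk
    by_contra hx
    haveI : (⁅K, K⁆ : Subgroup L).Normal := inferInstance
    let f : K → K := fun a => ⟨(a : L)⁻¹ * (x * a * x⁻¹),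
      mul_mem (inv_mem a.2) (Subgroup.Normal.conj_mem inferInstance _ a.2 x)⟩
    have hf : Function.Surjective f := Finite.injective_iff_surjective.1 (by
      intro a b hab
      have e : (a : L)⁻¹ * (x * a * x⁻¹) = (b : L)⁻¹ * (x * b * x⁻¹) := congrArg Subtype.val hab
      refine Subtype.ext ?_
      by_contra hne'
      refine hx (hC _ (mul_mem b.2 (inv_mem a.2)) (fun h1 => hne' (mul_inv_eq_one.1 h1).symm) ?_)
      refine Subgroup.mem_centralizer_singleton_iff.2 ?_
      calc x * ((b : L) * (a : L)⁻¹) = (b : L) * ((b : L)⁻¹ * (x * b * x⁻¹)) * (x * (a : L)⁻¹) := by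
            group
        _ = (b : L) * ((a : L)⁻¹ * (x * a * x⁻¹)) * (x * (a : L)⁻¹) := by rw [e]
        _ = (b : L) * (a : L)⁻¹ * x := by group)
    let π := QuotientGroup.mk' ((⁅K, K⁆).subgroupOf K)
    have hnorm : ((⁅K, K⁆).subgroupOf K).Normal := inferInstance
    have hkey : ∀ a b : K, π a = π b → π (f a) = π (f b) := by
      intro a b hab
      rw [QuotientGroup.mk'_eq_mk'] at hab
      obtain ⟨c, hc, rfl⟩ := hab
      have hc' : (c : L) ∈ ⁅K, K⁆ := hc
      have hxc : x * (c : L) * x⁻¹ ∈ ⁅K, K⁆ := Subgroup.Normal.conj_mem inferInstance _ hc' x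
      have hv : (f a : L) ∈ K := (f a).2
      rw [QuotientGroup.mk'_eq_mk']
      refine ⟨(f a)⁻¹ * f (a * c), ?_, mul_inv_cancel_left _ _⟩
      rw [Subgroup.mem_subgroupOf, Subgroup.coe_mul, Subgroup.coe_inv]
      show ((a : L)⁻¹ * (x * a * x⁻¹))⁻¹ * (((a : L) * c)⁻¹ * (x * ((a : L) * c) * x⁻¹)) ∈ _
      rw [show ((a : L)⁻¹ * (x * a * x⁻¹))⁻¹ * (((a : L) * c)⁻¹ * (x * ((a : L) * c) * x⁻¹)) =
        ((a : L)⁻¹ * (x * a * x⁻¹))⁻¹ * (c : L)⁻¹ * ((a : L)⁻¹ * (x * a * x⁻¹)) * (x * c * x⁻¹) by group]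
      refine mul_mem ?_ hxc
      simpa using Subgroup.Normal.conj_mem inferInstance _ (inv_mem hc') ((a : L)⁻¹ * (x * a * x⁻¹))⁻¹
    let q : K ⧸ (⁅K, K⁆).subgroupOf K → K ⧸ (⁅K, K⁆).subgroupOf K :=
      fun t => π (f (Quotient.out t))
    have hq : ∀ a : K, q (π a) = π (f a) := fun a => hkey _ _ (QuotientGroup.out_eq' (π a))
    have hqs : Function.Surjective q := by
      intro t
      obtain ⟨b, rfl⟩ := QuotientGroup.mk'_surjective _ t
      obtain ⟨a, rfl⟩ := hf b
      exact ⟨π a, hq a⟩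
    have hqi := Finite.injective_iff_surjective.2 hqs
    have h0 : π (f ⟨k, hk⟩) = 1 := by
      rw [QuotientGroup.mk'_apply, QuotientGroup.eq_one_iff, Subgroup.mem_subgroupOf]
      show (k : L)⁻¹ * (x * k * x⁻¹) ∈ _
      have := Subgroup.Normal.conj_mem inferInstance _ hxk (k : L)⁻¹
      simpa [mul_assoc] using this
    have h1 : π (f 1) = 1 := by
      rw [show f 1 = 1 from Subtype.ext (by simp [f]), map_one]
    have := hqi ((hq ⟨k, hk⟩).trans (h0.trans (h1.symm.trans (hq 1).symm)))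
    rw [map_one, QuotientGroup.mk'_apply, QuotientGroup.eq_one_iff, Subgroup.mem_subgroupOf] at this
    exact hk' this
  · rcases hI.2 with h | ⟨hab, -⟩ | ⟨hdvd, -⟩
    · exact absurd h hTI
    · refine Or.inr (Or.inr (Or.inr (Or.inl ?_)))
      rw [Subgroup.commutator_le]
      intro a ha b hb
      rw [Subgroup.mem_bot, commutatorElement_eq_one_iff_mul_comm]
      exact Subtype.ext (congrArg (fun t : Cfsg.fittingHallOf L => (t : G)) (hab.is_comm.comm
        ⟨(a : G), mem_fittingHall_iff.1 ha⟩ ⟨(b : G), mem_fittingHall_iff.1 hb⟩))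
    · by_cases hpp : ∃ p m : ℕ, p.Prime ∧ (⊥ : Subgroup L).relIndex K = p ^ m
      swap
      · exact Or.inr (Or.inr (Or.inl hpp))
      obtain ⟨p, m, hp, hm⟩ := hpp
      refine Or.inr (Or.inr (Or.inr (Or.inr ⟨p, m, hp, hm, ?_⟩)))
      rw [Subgroup.relIndex_bot_left] at hm
      have hpd : p ∣ Nat.card (Cfsg.fittingHallOf L) := by
        rw [Cfsg.fittingHallOf, Subgroup.card_map_of_injective L.subtype_injective, ← hKdef, hm]
        refine dvd_pow_self p fun h => hne (Subgroup.card_eq_one.1 ?_)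
        rw [hm, h, pow_zero]
      refine dvd_trans ?_ (hdvd p hp hpd)
      obtain ⟨-, -, -, -, U, -, hUc, -, -⟩ := hI.1
      have hidx : K.index = Nat.card U := by
        have h1 := hUc.card_mul_card
        rw [← hKdef, ← K.card_mul_index] at h1
        exact (Nat.eq_of_mul_eq_mul_left Nat.card_pos h1).symm
      have hfix : Group.IsFixFree U K := by
        refine ⟨by rw [Subgroup.normalizer_eq_top]; exact le_top, fun a ha ha1 h hh hah => ?_⟩
        by_contra h1
        exact ha1 (Subgroup.disjoint_def.1 hUc.disjoint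
          (hC h hh h1 (Subgroup.mem_centralizer_singleton_iff.2 hah)) ha)
      rw [hidx, ← Monoid.exponent_eq_of_mulEquiv hUc.symm.QuotientMulEquiv.symm]
      refine Group.card_dvd_exponent fun r hr hrd P => ?_
      haveI := Fact.mk hr
      have hr2 : r ≠ 2 := fun h2 => Nat.not_even_iff_odd.2 hodd
        (even_iff_two_dvd.2 (h2 ▸ hrd.trans (Subgroup.card_subgroup_dvd_card U)))
      have := Group.isCyclic_of_pGroup hr2 (P.2.map U.subtype)
        (hfix.mono (Subgroup.map_subtype_le _)) hne hnilK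
      exact isCyclic_of_surjective _
        ((P : Subgroup U).equivMapOfInjective _ U.subtype_injective).symm.surjective

end Cfsg.Agent.Lib.OddOrder.PF12.Coherent
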