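import Cfsg.Agent.Lib.Isometry.Inflate
import Cfsg.Agent.Lib.Isometry.AbelianQuotient
import Cfsg.Agent.Lib.Clifford.Basic
import Cfsg.Agent.Lib.Characters.Indicator
import Cfsg.Agent.S1536
import Cfsg.Agent.Lib.OddOrder.Basic
import Cfsg.Prelude.Def_OddOrderLocal

/-!
# Peterfalvi (12.4): the characters of a type I subgroup not trivial on the kernel

* `vanish` : they vanish at elements without fixed points on the kernel.
* `blocks` : they fall into the constituent sets of the induced characters, of equal degrees.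
* `eq_on_cosets` : the consequence for class functions orthogonal to the differences within the sets.

Owner: helper8.
-/

set_option autoImplicit false

namespace Cfsg.Agent.Lib.OddOrder.PF12.Blocks

open scoped ComplexConjugate Classical
open Cfsg.Agent.Lib.Isometry Cfsg.Agent.Lib.Induced.Basic Cfsg.Agent.Lib.Characters.Basic
open Cfsg.Agent.Lib.Clifford.Basic

universe u

variable {M : Type u} [Group M] [Fintype M] (K : Subgroup M) [K.Normal]

/-- An irreducible character not trivial on `K` vanishes at elements without fixed points on `K`. -/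
theorem vanish {χ : M → ℂ} (hχ : χ ∈ Inflate.layer K ⊥) {m : M}
    (hm : ∀ k ∈ K, m * k = k * m → k = 1) : χ m = 0 := by
  haveI := Fintype.ofFinite (Cfsg.IrrCharacter M)
  haveI := Fintype.ofFinite (Cfsg.IrrCharacter (M ⧸ K))
  obtain ⟨hirr, -, g, hg, hne⟩ := Inflate.mem_layer.1 hχ
  let f : Subgroup.centralizer ({m} : Set M) → Subgroup.centralizer ({(m : M ⧸ K)} : Set (M ⧸ K)) :=
    fun c => ⟨((c : M) : M ⧸ K), Subgroup.mem_centralizer_singleton_iff.2 (by
      have := congrArg (fun t : M => (t : M ⧸ K)) (Subgroup.mem_centralizer_singleton_iff.1 c.2)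
      simpa using this)⟩
  have hf : Function.Injective f := by
    intro a b hab
    have e : ((a⁻¹ * b : Subgroup.centralizer ({m} : Set M)) : M) ∈ K := by
      simpa using QuotientGroup.eq.1 (congrArg Subtype.val hab)
    have h1 := hm _ e (Subgroup.mem_centralizer_singleton_iff.1 (a⁻¹ * b).2).symm
    exact inv_mul_eq_one.1 (Subtype.ext h1)
  have hle := Nat.card_le_card_of_injective f hf
  have h1 := Characters.Complete.sum_irr_mul_conj (G := M) m m
  have h2 := Characters.Complete.sum_irr_mul_conj (G := M ⧸ K) (m : M ⧸ K) (m : M ⧸ K)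
  rw [if_pos (IsConj.refl m)] at h1
  rw [if_pos (IsConj.refl _)] at h2
  set s := Finset.univ.filter fun ψ : Cfsg.IrrCharacter M =>
    ∀ a ∈ K, (ψ : M → ℂ) a = (ψ : M → ℂ) 1 with hs
  have h3 : ∑ ψ ∈ s, (ψ : M → ℂ) m * conj ((ψ : M → ℂ) m) =
      (Nat.card (Subgroup.centralizer ({(m : M ⧸ K)} : Set (M ⧸ K))) : ℂ) := by
    rw [← h2, hs, Finset.sum_subtype (p := fun ψ : Cfsg.IrrCharacter M =>
      ∀ a ∈ K, (ψ : M → ℂ) a = (ψ : M → ℂ) 1) _ (fun ψ => by simp),
      ← (Characters.Kernel.inflateEquiv K).sum_comp]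
    simp only [Characters.Kernel.inflateEquiv_apply]
  rw [← Finset.sum_add_sum_compl s, h3] at h1
  simp only [Complex.mul_conj, ← Complex.ofReal_natCast, ← Complex.ofReal_sum,
    ← Complex.ofReal_add, Complex.ofReal_inj] at h1
  have hle' : (Nat.card (Subgroup.centralizer ({m} : Set M)) : ℝ) ≤
      Nat.card (Subgroup.centralizer ({(m : M ⧸ K)} : Set (M ⧸ K))) := by exact_mod_cast hle
  have hz : ∑ ψ ∈ sᶜ, Complex.normSq ((ψ : M → ℂ) m) = 0 :=
    le_antisymm (by linarith) (Finset.sum_nonneg fun _ _ => Complex.normSq_nonneg _)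
  have := (Finset.sum_eq_zero_iff_of_nonneg fun _ _ => Complex.normSq_nonneg _).1 hz ⟨χ, hirr⟩
    (by
      rw [Finset.mem_compl, hs, Finset.mem_filter]
      exact fun h => hne (h.2 g hg))
  exact Complex.normSq_eq_zero.1 this

/-- An irreducible character not trivial on `K` has no trivial constituent on `K`. -/
theorem inner_one_eq_zero [Fintype K] {χ : M → ℂ} (hχ : χ ∈ Inflate.layer K ⊥) :
    Cfsg.classInner (fun n : K => χ n) (oneChar K : K → ℂ) = 0 := by
  obtain ⟨hirr, -, g, hg, hne⟩ := Inflate.mem_layer.1 hχ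
  by_contra h
  have := restrict_eq_smul K hirr (oneChar K) h (fun x => funext fun n => by rw [conjC_apply, oneChar_apply, oneChar_apply])
  refine hne ?_
  have e1 := congrFun this ⟨g, hg⟩
  have e2 := congrFun this 1
  simp only [Pi.smul_apply, oneChar_apply, OneMemClass.coe_one] at e1 e2
  exact e1.trans e2.symm

/-- A nonprincipal character of `K` is not conjugate to its complex conjugate. -/
theorem conjC_ne_conj (hodd : Odd (Nat.card M)) (θ : Cfsg.IrrCharacter K)
    (hθ : (θ : K → ℂ) ≠ fun _ => 1) (g : M) : conjC K g θ ≠ Cfsg.conjFun (θ : K → ℂ) := by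
  intro e
  have h2 : conjC K (g * g) θ = (θ : K → ℂ) := by
    rw [conjC_mul, e]
    funext n
    have := congrFun e n
    simp only [conjC_apply, Cfsg.conjFun] at this ⊢
    rw [this, Complex.conj_conj]
  obtain ⟨k, hk⟩ := hodd
  have hg : g ∈ inertia K (θ : K → ℂ) := by
    have h3 := pow_mem (show g * g ∈ inertia K (θ : K → ℂ) from h2) (k + 1)
    have e3 : (g * g) ^ (k + 1) = g := by
      rw [← pow_two, ← pow_mul, show 2 * (k + 1) = Nat.card M + 1 by omega, pow_succ,
        pow_card_eq_one', one_mul]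
    rwa [e3] at h3
  rw [(mem_inertia K).1 hg] at e
  haveI : Finite K := inferInstance
  have hoddK : Odd (Nat.card K) :=
    Odd.of_dvd_nat ⟨k, hk⟩ (Subgroup.card_subgroup_dvd_card K)
  refine hθ ?_
  have h4 := Characters.Indicator.eq_oneChar_of_real hoddK θ
    fun n => Complex.conj_eq_iff_im.1 (congrFun e n).symm
  funext n
  rw [h4, oneChar_apply]

/-- `B` is a constituent set: `Ind θ` is a multiple of its sum, its members have equal degree and
none of them has its conjugate in it. -/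
structure IsBlock [Fintype K] (θ : K → ℂ) (e : ℕ) (C : Finset (M → ℂ)) : Prop where
  pos : 0 < e
  subset : C ⊆ Inflate.layer K ⊥
  ind : Cfsg.indFun K θ = (e : ℂ) • ∑ χ ∈ C, χ
  degree : ∀ χ ∈ C, ∀ φ ∈ C, χ 1 = φ 1
  conj_not_mem : ∀ χ ∈ C, Cfsg.conjFun χ ∉ C

/-- The constituents of `Ind θ`, for `θ` nonprincipal with abelian inertia quotient. -/
theorem exists_block [Fintype K] (hodd : Odd (Nat.card M))
    (hab : ∀ θ : K → ℂ, Cfsg.IsIrrCharacter K θ → θ ≠ (fun _ => 1) →
      ∀ x ∈ inertia K θ, ∀ y ∈ inertia K θ, x * y * x⁻¹ * y⁻¹ ∈ K)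
    (θ : Cfsg.IrrCharacter K) (hθ : (θ : K → ℂ) ≠ fun _ => 1) :
    ∃ e C, IsBlock K (θ : K → ℂ) e C := by
  haveI : Fintype (inertia K (θ : K → ℂ)) := Fintype.ofFinite _
  obtain ⟨e, C, he, hirr, -, hdec, hdeg, -⟩ :=
    AbelianQuotient.decompose K _ θ.2 rfl (hab θ θ.2 hθ)
  have hinner : ∀ χ ∈ C, Cfsg.classInner (fun n : K => χ n) θ = (e : ℂ) := fun χ hχ => by
    have h1 := frobenius_reciprocity' K (θ : K → ℂ) (isClassFunction_irr ⟨χ, hirr χ hχ⟩)
    show Cfsg.classInner (fun n : K => (⟨χ, hirr χ hχ⟩ : Cfsg.IrrCharacter M).1 n) θ = _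
    rw [← h1, hdec, classInner_smul_right, classInner_sum_right,
      Finset.sum_congr rfl fun φ hφ => Inner.classInner_irr_eq (hirr χ hχ) (hirr φ hφ),
      Finset.sum_ite_eq, if_pos hχ, mul_one, map_natCast]
  refine ⟨e, C, he, fun χ hχ => ?_, hdec, fun χ hχ φ hφ => (hdeg χ hχ).trans (hdeg φ hφ).symm,
    fun χ hχ hχ' => ?_⟩
  · refine Inflate.mem_layer.2 ⟨hirr χ hχ, fun g hg => by rw [Subgroup.mem_bot.1 hg], ?_⟩
    by_contra! hall
    have h1 := hinner χ hχ
    have hres : (fun n : K => χ n) = χ 1 • (oneChar K : K → ℂ) := funext fun n => by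
      rw [Pi.smul_apply, oneChar_apply, smul_eq_mul, mul_one, hall n n.2]
    rw [hres, classInner_smul_left, classInner_irr_of_ne (fun h => hθ (by
      rw [← h]; exact funext fun n => oneChar_apply n)), mul_zero] at h1
    exact he.ne (Nat.cast_eq_zero.1 h1.symm).symm
  · have hc := Inner.classInner_conjFun (fun n : K => χ n) (θ : K → ℂ)
    rw [hinner χ hχ, map_natCast] at hc
    obtain ⟨g, hg⟩ := exists_conj_of_constituents K (hirr _ hχ') (θ := θ)
      (ψ := ⟨_, Inner.conjFun_irr θ.2⟩)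
      (by rw [hinner _ hχ']; exact Nat.cast_ne_zero.2 he.ne')
      (by
        show Cfsg.classInner (Cfsg.conjFun fun n : K => χ n) (Cfsg.conjFun (θ : K → ℂ)) ≠ 0
        rw [hc]; exact Nat.cast_ne_zero.2 he.ne')
    exact conjC_ne_conj K hodd θ hθ g hg

/-- A class function orthogonal to the differences within the constituent sets is constant on the
cosets of `K` outside `K`. -/
theorem eq_on_cosets [Fintype K] {F : M → ℂ} (hF : Cfsg.IsClassFunction M F)
    (hblock : ∀ θ : Cfsg.IrrCharacter K, (θ : K → ℂ) ≠ (fun _ => 1) → ∃ e C,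
      IsBlock K (θ : K → ℂ) e C ∧
        ∀ χ ∈ C, ∀ φ ∈ C, Cfsg.classInner F χ = Cfsg.classInner F φ)
    {m k : M} (hm : m ∉ K) (hk : k ∈ K) : F (m * k) = F m := by
  haveI := Fintype.ofFinite (Cfsg.IrrCharacter M)
  haveI := Fintype.ofFinite (Cfsg.IrrCharacter K)
  set c : (M → ℂ) → ℂ := fun χ => Cfsg.classInner F χ with hc
  -- the layer part vanishes outside `K`
  have hweight : ∀ χ ∈ Inflate.layer K ⊥, ∑ θ : Cfsg.IrrCharacter K,
      (θ : K → ℂ) 1 * Cfsg.classInner (θ : K → ℂ) (fun n : K => χ n) = χ 1 := by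
    intro χ hχ
    have hd : Cfsg.IsClassFunction K (fun n : K => χ n) :=
      isClassFunction_of_isCharacter
        (isCharacter_comp K.subtype (IsCharacter_of_isIrrCharacter (Inflate.mem_layer.1 hχ).1))
    have h1 := congrFun (Characters.Complete.classFunction_eq_sum hd) 1
    rw [Finset.sum_apply, OneMemClass.coe_one] at h1
    rw [← conj_apply_one (IsCharacter_of_isIrrCharacter (Inflate.mem_layer.1 hχ).1), h1, map_sum]
    refine Finset.sum_congr rfl fun θ _ => ?_
    rw [Pi.smul_apply, smul_eq_mul, map_mul, conj_apply_one (isCharacter_irr θ),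
      ← classInner_conj_symm, mul_comm]
  have hQ : ∀ x : M, x ∉ K → ∑ χ ∈ Inflate.layer K ⊥, c χ * χ x = 0 := by
    intro x hx
    calc ∑ χ ∈ Inflate.layer K ⊥, c χ * χ x
        = ∑ χ ∈ Inflate.layer K ⊥, ∑ θ : Cfsg.IrrCharacter K, (c χ * χ x / χ 1) *
            ((θ : K → ℂ) 1 * Cfsg.classInner (θ : K → ℂ) (fun n : K => χ n)) := by
          refine Finset.sum_congr rfl fun χ hχ => ?_
          rw [← Finset.mul_sum, hweight χ hχ, div_mul_cancel₀ _
            (degree_pos (Inflate.mem_layer.1 hχ).1)]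
      _ = ∑ θ : Cfsg.IrrCharacter K, ∑ χ ∈ Inflate.layer K ⊥, (c χ * χ x / χ 1) *
            ((θ : K → ℂ) 1 * Cfsg.classInner (θ : K → ℂ) (fun n : K => χ n)) := Finset.sum_comm
      _ = 0 := by
          refine Finset.sum_eq_zero fun θ _ => ?_
          by_cases hθ : (θ : K → ℂ) = fun _ => 1
          · refine Finset.sum_eq_zero fun χ hχ => ?_
            have h0 := inner_one_eq_zero K hχ
            rw [show ((oneChar K : K → ℂ)) = (θ : K → ℂ) by rw [hθ]; exact funext fun n => oneChar_apply n]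
              at h0
            rw [← classInner_conj_symm, h0, map_zero, mul_zero, mul_zero]
          obtain ⟨e, C, hB, heq⟩ := hblock θ hθ
          have hval : ∀ χ ∈ Inflate.layer K ⊥, Cfsg.classInner (θ : K → ℂ) (fun n : K => χ n) =
              if χ ∈ C then (e : ℂ) else 0 := by
            intro χ hχ
            have hi := (Inflate.mem_layer.1 hχ).1
            rw [← frobenius_reciprocity K _ (isClassFunction_irr ⟨χ, hi⟩), hB.ind,
              classInner_smul_left, classInner_sum_left,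
              Finset.sum_congr rfl fun φ hφ =>
                Inner.classInner_irr_eq (Inflate.mem_layer.1 (hB.subset hφ)).1 hi,
              Finset.sum_ite_eq', mul_ite, mul_one, mul_zero]
          rw [Finset.sum_congr rfl fun χ hχ => by rw [hval χ hχ]]
          simp only [mul_ite, mul_zero, Finset.sum_ite_mem, Finset.inter_eq_right.2 hB.subset]
          rcases C.eq_empty_or_nonempty with h | ⟨φ, hφ⟩
          · simp [h]
          have hind := congrFun hB.ind x
          rw [indFun_eq_zero_of_not_mem_normal K _ hx, Pi.smul_apply, Finset.sum_apply,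
            smul_eq_mul] at hind
          rw [Finset.sum_congr rfl (g := fun χ => c φ / φ 1 * (θ : K → ℂ) 1 * ((e : ℂ) * χ x))
            fun χ hχ => by rw [show c χ = c φ from heq χ hχ φ hφ, hB.degree χ hχ φ hφ]; ring,
            ← Finset.mul_sum, ← Finset.mul_sum, ← hind, mul_zero]
  have hmk : m * k ∉ K := fun h => hm ((K.mul_mem_cancel_right hk).1 h)
  have hF' := Characters.Complete.classFunction_eq_sum hF
  set s := Finset.univ.filter fun ψ : Cfsg.IrrCharacter M =>
    ∀ a ∈ K, (ψ : M → ℂ) a = (ψ : M → ℂ) 1 with hs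
  have hlayer : ∀ x : M, x ∉ K → ∑ ψ ∈ sᶜ, c (ψ : M → ℂ) * (ψ : M → ℂ) x = 0 := by
    intro x hx
    rw [← hQ x hx]
    refine Finset.sum_bij (fun ψ _ => (ψ : M → ℂ)) (fun ψ hψ => ?_) (fun a _ b _ h => Subtype.ext h)
      (fun χ hχ => ?_) (fun _ _ => rfl)
    · rw [Finset.mem_compl, hs, Finset.mem_filter] at hψ
      push Not at hψ
      exact Inflate.mem_layer.2 ⟨ψ.2, fun g hg => by rw [Subgroup.mem_bot.1 hg],
        hψ (Finset.mem_univ _)⟩
    · obtain ⟨hi, -, g, hg, hne⟩ := Inflate.mem_layer.1 hχ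
      exact ⟨⟨χ, hi⟩, by simpa [hs] using ⟨g, hg, hne⟩, rfl⟩
  have key : ∀ x : M, x ∉ K → F x = ∑ ψ ∈ s, c (ψ : M → ℂ) * (ψ : M → ℂ) x := by
    intro x hx
    rw [congrFun hF' x, Finset.sum_apply, ← Finset.sum_add_sum_compl s]
    simp only [Pi.smul_apply, smul_eq_mul]
    rw [show ∑ ψ ∈ sᶜ, Cfsg.classInner F (ψ : M → ℂ) * (ψ : M → ℂ) x = 0 from hlayer x hx, add_zero]
  rw [key _ hmk, key _ hm]
  refine Finset.sum_congr rfl fun ψ hψ => ?_
  rw [(Characters.Kernel.apply_mul_of_apply_eq_one (isCharacter_irr ψ)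
    ((Finset.mem_filter.1 hψ).2 k hk) m).2]

omit [Fintype M] in
/-- In a group of Frobenius type the inertia groups of nonprincipal characters of the kernel are
abelian modulo the kernel. -/
theorem inertia_comm_of_typeF [Finite M] (hF : Cfsg.IsOfTypeF M)
    (θ : Cfsg.fittingHall M → ℂ) (hθi : Cfsg.IsIrrCharacter (Cfsg.fittingHall M) θ)
    (hθ : θ ≠ fun _ => 1) : ∀ x ∈ inertia (Cfsg.fittingHall M) θ,
      ∀ y ∈ inertia (Cfsg.fittingHall M) θ, x * y * x⁻¹ * y⁻¹ ∈ Cfsg.fittingHall M := by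
  obtain ⟨-, -, -, -, U, -, hc, ⟨U₁, -, -, hab, hcent⟩, -⟩ := hF
  have key : ∀ x ∈ inertia (Cfsg.fittingHall M) θ, ∃ u ∈ U₁, (x : M ⧸ (Cfsg.fittingHall M)) = (u : M ⧸ (Cfsg.fittingHall M)) := by
    intro x hx
    obtain ⟨⟨a, u⟩, hau, -⟩ := hc.existsUnique x
    simp only at hau
    have hax : (a : M) ∈ inertia (Cfsg.fittingHall M) θ :=
      le_inertia (Cfsg.fittingHall M) (isClassFunction_irr ⟨θ, hθi⟩) a.2
    have hu : (u : M) ∈ inertia (Cfsg.fittingHall M) θ := by
      have h := mul_mem (inv_mem hax) hx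
      rwa [← hau, inv_mul_cancel_left] at h
    obtain ⟨h, hh, hh1, hcomm⟩ := (Cfsg.Agent.S1536.result (Cfsg.fittingHall M)
      (Basic.fittingHall_spec M).2 (u : M)).1 ⟨θ, hθi, hθ, (mem_inertia (Cfsg.fittingHall M)).1 hu⟩
    refine ⟨u, hcent h hh hh1 ⟨u.2, Subgroup.mem_centralizer_singleton_iff.2 hcomm⟩, ?_⟩
    rw [← hau, QuotientGroup.mk_mul, (QuotientGroup.eq_one_iff (a : M)).2 a.2, one_mul]
  intro x hx y hy
  obtain ⟨u, hu, eu⟩ := key x hx
  obtain ⟨v, hv, ev⟩ := key y hy
  rw [← QuotientGroup.eq_one_iff]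
  simp only [QuotientGroup.mk_mul, QuotientGroup.mk_inv, eu, ev]
  have huv : u * v = v * u := congrArg Subtype.val (hab.is_comm.comm ⟨u, hu⟩ ⟨v, hv⟩)
  have e : (u : M ⧸ (Cfsg.fittingHall M)) * v = v * u := by rw [← QuotientGroup.mk_mul, huv, QuotientGroup.mk_mul]
  rw [e, mul_inv_cancel_right, mul_inv_cancel]

end Cfsg.Agent.Lib.OddOrder.PF12.Blocks
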