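import Cfsg.Agent.Lib.OddOrder.TypeOne
import Cfsg.Agent.Lib.OddOrder.PF12.Avg
import Cfsg.Agent.Lib.OddOrder.PF12.Blocks
import Cfsg.Agent.S1518

/-!
# Peterfalvi (12.3), (12.4): orthogonality on the side of `M`

Owner: helper8.
-/

set_option autoImplicit false

namespace Cfsg.Agent.Lib.OddOrder.PF12.MSide

open scoped ComplexConjugate Classical
open Cfsg.Agent.Lib.Isometry Cfsg.Agent.Lib.Induced.Basic Cfsg.Agent.Lib.Characters.Basic
open Cfsg.Agent.Lib.OddOrder.Interface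

universe u

variable {G : Type u} [Group G] [Fintype G] {M : Subgroup G} [Fintype M]

theorem supported (hI : Cfsg.Agent.Lib.OddOrder.TypeOne.IsTypeI M) {χ : M → ℂ}
    (hχ : χ ∈ Inflate.layer (Cfsg.fittingHall M) ⊥) :
    ∀ x : M, x ≠ 1 → (x : G) ∉ Cfsg.Agent.Lib.OddOrder.TypeOne.typeA M → χ x = 0 := by
  intro x hx1 hx
  refine Blocks.vanish _ hχ fun k hk hc => ?_
  by_contra hk1
  exact hx ((Avg.mem_typeA hI).2 ⟨x.2, fun e => hx1 (Subtype.ext e), (k : G),
    Avg.mem_fittingHall.1 hk, fun e => hk1 (Subtype.ext e), congrArg Subtype.val hc⟩)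

theorem conj_ne {L : Type u} [Group L] [Fintype L] (hodd : Odd (Nat.card L)) {K : Subgroup L}
    {χ : L → ℂ} (hχ : χ ∈ Inflate.layer K ⊥) : Cfsg.conjFun χ ≠ χ := by
  intro hreal
  obtain ⟨h, -, g, -, hne⟩ := Inflate.mem_layer.1 hχ
  have := Characters.Indicator.eq_oneChar_of_real hodd ⟨χ, h⟩
    fun x => Complex.conj_eq_iff_im.1 (congrFun hreal x)
  exact hne (by rw [show χ = _ from congrArg Subtype.val this]; rfl)

/-- At most two of the coefficients of a norm two generalized character are nonzero. -/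
theorem coeff_eq_zero {v : G → ℂ} (hv : Cfsg.IsGeneralizedCharacter G v)
    (hn : Cfsg.classInner v v = 2) {a b a' b' ν : Cfsg.IrrCharacter G}
    (hab : Cfsg.classInner v (a : G → ℂ) - Cfsg.classInner v (b : G → ℂ) ≠ 0)
    (hab' : Cfsg.classInner v (a' : G → ℂ) - Cfsg.classInner v (b' : G → ℂ) ≠ 0)
    (h1 : a ≠ a') (h2 : a ≠ b') (h3 : b ≠ a') (h4 : b ≠ b')
    (hν : ν ≠ a ∧ ν ≠ b ∧ ν ≠ a' ∧ ν ≠ b') : Cfsg.classInner v (ν : G → ℂ) = 0 := by
  haveI := Fintype.ofFinite (Cfsg.IrrCharacter G)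
  obtain ⟨c, hc, -, hsum⟩ := Inner.gen_coeff hv
  rw [hn] at hsum
  have hsum' : ∑ χ, c χ ^ 2 = 2 := by exact_mod_cast hsum.symm
  rw [hc, hc] at hab hab'
  rw [hc]
  obtain ⟨s, hs, hs'⟩ : ∃ s, c s ≠ 0 ∧ (s = a ∨ s = b) := by
    by_cases h : c a = 0
    · exact ⟨b, fun e => hab (by simp [h, e]), Or.inr rfl⟩
    · exact ⟨a, h, Or.inl rfl⟩
  obtain ⟨t, ht, ht'⟩ : ∃ t, c t ≠ 0 ∧ (t = a' ∨ t = b') := by
    by_cases h : c a' = 0
    · exact ⟨b', fun e => hab' (by simp [h, e]), Or.inr rfl⟩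
    · exact ⟨a', h, Or.inl rfl⟩
  by_contra hne
  have hne' : c ν ≠ 0 := by exact_mod_cast hne
  have hst : s ≠ t := by rcases hs' with rfl | rfl <;> rcases ht' with rfl | rfl <;> assumption
  have hsν : ν ≠ s := by rcases hs' with rfl | rfl <;> tauto
  have htν : ν ≠ t := by rcases ht' with rfl | rfl <;> tauto
  have hle : ∑ χ ∈ ({ν, s, t} : Finset (Cfsg.IrrCharacter G)), c χ ^ 2 ≤ 2 :=
    hsum' ▸ Finset.sum_le_sum_of_subset_of_nonneg (Finset.subset_univ _) fun _ _ _ => sq_nonneg _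
  rw [Finset.sum_insert (by simp [hsν, htν]), Finset.sum_pair hst] at hle
  have h5 := Int.one_le_abs hne'
  have h6 := Int.one_le_abs hs
  have h7 := Int.one_le_abs ht
  nlinarith [sq_abs (c ν), sq_abs (c s), sq_abs (c t)]

/-- (12.3) and (12.4): `avg M ψ` has equal inner products with the members of a constituent set. -/
theorem inner_eq {L : Subgroup G} {hodd : Odd (Nat.card M)} (hI : Cfsg.Agent.Lib.OddOrder.TypeOne.IsTypeI M)
    (hD : Cfsg.DadeHypothesis (Cfsg.Agent.Lib.OddOrder.TypeOne.typeA M) M (Cfsg.supportR M))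
    (hdisj : Cfsg.tildeOf M (Cfsg.typeA1 M) ∩ Cfsg.tildeOf L (Cfsg.Agent.Lib.OddOrder.TypeOne.typeA L) = ∅)
    {μ : G → ℂ} (hμ : Cfsg.IsIrrCharacter G μ) (hμne : Cfsg.conjFun μ ≠ μ)
    (hμsupp : ∀ g : G, g ∉ Cfsg.tildeOf L (Cfsg.Agent.Lib.OddOrder.TypeOne.typeA L) → μ g - conj (μ g) = 0)
    {ψ : G → ℂ} (hψ : ψ = μ ∨ ψ = -Cfsg.conjFun μ)
    (θ : Cfsg.IrrCharacter (Cfsg.fittingHall M)) (hθ : (θ : Cfsg.fittingHall M → ℂ) ≠ fun _ => 1) :
    ∃ e C, Blocks.IsBlock (Cfsg.fittingHall M) (θ : Cfsg.fittingHall M → ℂ) e C ∧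
      ∀ χ ∈ C, ∀ φ ∈ C, Cfsg.classInner (Avg.avg M ψ) χ = Cfsg.classInner (Avg.avg M ψ) φ := by
  set τ := Avg.dadeLin (Cfsg.Agent.Lib.OddOrder.TypeOne.typeA M) M (Cfsg.supportR M) with hτ
  have hirr : ∀ χ ∈ Inflate.layer (Cfsg.fittingHall M) ⊥, Cfsg.IsIrrCharacter M χ :=
    fun χ hχ => (Inflate.mem_layer.1 hχ).1
  choose! m hm hmτ using fun χ (hχ : χ ∈ Inflate.layer (Cfsg.fittingHall M) ⊥) =>
    Cfsg.Agent.S1518.result (Cfsg.Agent.Lib.OddOrder.TypeOne.typeA M) M (Cfsg.supportR M) hD χ (hirr χ hχ) (supported hI hχ)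
  have hsub : ∀ χ ∈ Inflate.layer (Cfsg.fittingHall M) ⊥, ∀ x : M, (x : G) ∉ Cfsg.Agent.Lib.OddOrder.TypeOne.typeA M →
      (χ - Cfsg.conjFun χ) x = 0 := by
    intro χ hχ x hx
    by_cases hx1 : x = 1
    · subst hx1
      simp [Cfsg.conjFun, conj_apply_one (IsCharacter_of_isIrrCharacter (hirr χ hχ))]
    · simp [Cfsg.conjFun, supported hI hχ x hx1 hx]
  have hcl : ∀ χ ∈ Inflate.layer (Cfsg.fittingHall M) ⊥,
      Cfsg.IsClassFunction M (χ - Cfsg.conjFun χ) := fun χ hχ =>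
    Characters.Complete.classFun_sub (isClassFunction_irr ⟨χ, hirr χ hχ⟩)
      (isClassFunction_irr ⟨_, Inner.conjFun_irr (hirr χ hχ)⟩)
  have hmne : ∀ χ ∈ Inflate.layer (Cfsg.fittingHall M) ⊥, Cfsg.conjFun (m χ) ≠ m χ := by
    intro χ hχ e
    have h1 := Dade.classInner_dade_dade hD (hcl χ hχ) (hsub χ hχ) (hcl χ hχ)
    rw [hmτ χ hχ, e, sub_self, classInner_zero_left, classInner_sub_left, classInner_sub_right,
      classInner_sub_right, Inner.classInner_irr_eq (hirr χ hχ) (hirr χ hχ),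
      Inner.classInner_irr_eq (hirr χ hχ) (Inner.conjFun_irr (hirr χ hχ)),
      Inner.classInner_irr_eq (Inner.conjFun_irr (hirr χ hχ)) (hirr χ hχ),
      Inner.classInner_irr_eq (Inner.conjFun_irr (hirr χ hχ)) (Inner.conjFun_irr (hirr χ hχ)),
      if_pos rfl, if_pos rfl, if_neg (conj_ne hodd hχ).symm, if_neg (conj_ne hodd hχ)] at h1
    norm_num at h1
  have hdist : ∀ χ ∈ Inflate.layer (Cfsg.fittingHall M) ⊥,
      ∀ φ ∈ Inflate.layer (Cfsg.fittingHall M) ⊥, φ ≠ χ → φ ≠ Cfsg.conjFun χ →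
        m χ ≠ m φ ∧ m χ ≠ Cfsg.conjFun (m φ) := by
    intro χ hχ φ hφ hne hne'
    have h1 := Dade.classInner_dade_dade hD (hcl χ hχ) (hsub χ hχ) (hcl φ hφ)
    have hχc := Inner.conjFun_irr (hirr χ hχ)
    have hφc := Inner.conjFun_irr (hirr φ hφ)
    rw [hmτ χ hχ, hmτ φ hφ] at h1
    simp only [classInner_sub_left, classInner_sub_right] at h1
    rw [Inner.classInner_irr_eq (hirr χ hχ) (hirr φ hφ), if_neg hne.symm,
      Inner.classInner_irr_eq (hirr χ hχ) hφc,
      if_neg (fun e => hne' (by rw [e, Inner.conjFun_conjFun])),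
      Inner.classInner_irr_eq hχc (hirr φ hφ), if_neg hne'.symm,
      Inner.classInner_irr_eq hχc hφc,
      if_neg (fun e => hne (by
        have := congrArg Cfsg.conjFun e
        rw [Inner.conjFun_conjFun, Inner.conjFun_conjFun] at this
        exact this.symm))] at h1
    have ha := hm χ hχ
    have hb := hm φ hφ
    constructor <;> intro e
    · rw [← e] at h1
      rw [Inner.classInner_irr_eq ha ha, Inner.classInner_irr_eq ha (Inner.conjFun_irr ha),
        Inner.classInner_irr_eq (Inner.conjFun_irr ha) ha,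
        Inner.classInner_irr_eq (Inner.conjFun_irr ha) (Inner.conjFun_irr ha),
        if_pos rfl, if_pos rfl, if_neg (hmne χ hχ).symm, if_neg (hmne χ hχ)] at h1
      norm_num at h1
    · have e' : m φ = Cfsg.conjFun (m χ) := by rw [e, Inner.conjFun_conjFun]
      rw [e', Inner.conjFun_conjFun] at h1
      rw [Inner.classInner_irr_eq ha ha, Inner.classInner_irr_eq ha (Inner.conjFun_irr ha),
        Inner.classInner_irr_eq (Inner.conjFun_irr ha) ha,
        Inner.classInner_irr_eq (Inner.conjFun_irr ha) (Inner.conjFun_irr ha),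
        if_pos rfl, if_pos rfl, if_neg (hmne χ hχ).symm, if_neg (hmne χ hχ)] at h1
      norm_num at h1
  have hblk := Blocks.exists_block (Cfsg.fittingHall M) hodd
    (fun θ' h h' => Blocks.inertia_comm_of_typeF hI.1 θ' h h')
  -- `μ` is none of the characters attached to `M`
  have hnot : ∀ χ ∈ Inflate.layer (Cfsg.fittingHall M) ⊥, μ ≠ m χ ∧ μ ≠ Cfsg.conjFun (m χ) := by
    intro χ₀ hχ₀
    by_contra hcon
    have hcase : μ = m χ₀ ∨ μ = Cfsg.conjFun (m χ₀) := by tauto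
    obtain ⟨θ₀, hθ₀⟩ := Clifford.Basic.exists_constituent_restrict (Cfsg.fittingHall M) (hirr χ₀ hχ₀)
    have hθ₀1 : (θ₀ : Cfsg.fittingHall M → ℂ) ≠ fun _ => 1 := fun e => hθ₀ (by
      have := Blocks.inner_one_eq_zero _ hχ₀
      rwa [show (oneChar (Cfsg.fittingHall M) : Cfsg.fittingHall M → ℂ) = θ₀ by
        rw [e]; exact funext fun n => oneChar_apply n] at this)
    obtain ⟨e, C, hB⟩ := hblk θ₀ hθ₀1
    have hmem : χ₀ ∈ C := by
      by_contra hn
      refine hθ₀ ?_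
      have h1 := frobenius_reciprocity' (Cfsg.fittingHall M) (θ₀ : Cfsg.fittingHall M → ℂ)
        (isClassFunction_irr ⟨χ₀, hirr χ₀ hχ₀⟩)
      refine h1.symm.trans ?_
      rw [hB.ind, classInner_smul_right, classInner_sum_right, Finset.sum_eq_zero, mul_zero]
      intro φ hφ
      show Cfsg.classInner χ₀ φ = 0
      rw [Inner.classInner_irr_eq (hirr χ₀ hχ₀) (hirr φ (hB.subset hφ)), if_neg]
      exact fun e => hn (e ▸ hφ)
    set α : M → ℂ := (e : ℂ) • ∑ χ ∈ C, (χ - Cfsg.conjFun χ) with hα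
    have hτα : Cfsg.dadeIsometry (Cfsg.Agent.Lib.OddOrder.TypeOne.typeA M) M (Cfsg.supportR M) α =
        (e : ℂ) • ∑ χ ∈ C, (m χ - Cfsg.conjFun (m χ)) := by
      rw [← Avg.dadeLin_apply, hα, map_smul, map_sum]
      congr 1
      exact Finset.sum_congr rfl fun χ hχ => hmτ χ (hB.subset hχ)
    have hαcl : Cfsg.IsClassFunction M α :=
      Characters.Complete.classFun_smul _
        (Characters.Complete.classFun_sum _ fun χ hχ => hcl χ (hB.subset hχ))
    have hαind : ∀ x : M, α x = Cfsg.indFun (Cfsg.fittingHall M) (θ₀ : _ → ℂ) x -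
        conj (Cfsg.indFun (Cfsg.fittingHall M) (θ₀ : _ → ℂ) x) := by
      intro x
      rw [hB.ind, hα]
      simp [Finset.sum_apply, Cfsg.conjFun, Finset.sum_sub_distrib, mul_sub, map_sum]
    have hzero : Cfsg.classInner (Cfsg.dadeIsometry (Cfsg.Agent.Lib.OddOrder.TypeOne.typeA M) M (Cfsg.supportR M) α)
        (μ - Cfsg.conjFun μ) = 0 := by
      rw [Cfsg.classInner, Finset.sum_eq_zero, mul_zero]
      intro g _
      by_contra hne
      obtain ⟨h1, h2⟩ := mul_ne_zero_iff.1 hne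
      have hg : g ∈ Dade.support (Cfsg.Agent.Lib.OddOrder.TypeOne.typeA M) (Cfsg.supportR M) := by
        by_contra hg
        exact h1 (Dade.dadeIsometry_eq_zero hg)
      obtain ⟨a, ha, v, hv, x, hx⟩ := hg
      rw [Dade.dadeIsometry_apply hD hαcl (a := ⟨a, hD.subset ha⟩) ha hv hx] at h1
      have haK : (⟨a, hD.subset ha⟩ : M) ∈ Cfsg.fittingHall M := by
        by_contra hK
        exact h1 (by rw [hαind, indFun_eq_zero_of_not_mem_normal _ _ hK, map_zero, sub_zero])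
      have hg1 : g ∈ Cfsg.tildeOf M (Cfsg.typeA1 M) := by
        rw [← Avg.support_eq]
        exact ⟨a, (Avg.mem_typeA1 hI).2 ⟨Avg.mem_fittingHall.1 haK,
          fun e => hD.one_not_mem (e ▸ ha)⟩, v, hv, x, hx⟩
      refine h2 ?_
      show conj (μ g - conj (μ g)) = 0
      rw [hμsupp g fun h => Set.eq_empty_iff_forall_notMem.1 hdisj g ⟨hg1, h⟩, map_zero]
    rw [hτα, classInner_smul_left, classInner_sum_left] at hzero
    have hsingle : ∀ χ ∈ C, χ ≠ χ₀ →
        Cfsg.classInner (m χ - Cfsg.conjFun (m χ)) (μ - Cfsg.conjFun μ) = 0 := by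
      intro χ hχ hne
      obtain ⟨hd1, hd2⟩ := hdist χ (hB.subset hχ) χ₀ hχ₀ hne.symm
        (fun e => hB.conj_not_mem χ hχ (e ▸ hmem))
      have ha := hm χ (hB.subset hχ)
      have hb := hm χ₀ hχ₀
      have h3 : Cfsg.conjFun (m χ) ≠ m χ₀ := fun e => hd2 (by rw [← e, Inner.conjFun_conjFun])
      have h4 : Cfsg.conjFun (m χ) ≠ Cfsg.conjFun (m χ₀) := fun e => hd1 (by
        have := congrArg Cfsg.conjFun e
        rwa [Inner.conjFun_conjFun, Inner.conjFun_conjFun] at this)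
      rcases hcase with h | h <;> subst h <;>
        simp only [Inner.conjFun_conjFun, classInner_sub_left, classInner_sub_right] <;>
        rw [Inner.classInner_irr_eq ha hb, Inner.classInner_irr_eq ha (Inner.conjFun_irr hb),
          Inner.classInner_irr_eq (Inner.conjFun_irr ha) hb,
          Inner.classInner_irr_eq (Inner.conjFun_irr ha) (Inner.conjFun_irr hb),
          if_neg hd1, if_neg hd2, if_neg h3, if_neg h4] <;> ring
    rw [Finset.sum_eq_single_of_mem χ₀ hmem hsingle, mul_eq_zero] at hzero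
    refine hzero.elim (fun h => hB.pos.ne' (Nat.cast_eq_zero.1 h)) fun h => ?_
    have hb := hm χ₀ hχ₀
    rcases hcase with e' | e' <;> subst e' <;>
      simp only [Inner.conjFun_conjFun, classInner_sub_left, classInner_sub_right] at h <;>
      rw [Inner.classInner_irr_eq hb hb, Inner.classInner_irr_eq hb (Inner.conjFun_irr hb),
        Inner.classInner_irr_eq (Inner.conjFun_irr hb) hb,
        Inner.classInner_irr_eq (Inner.conjFun_irr hb) (Inner.conjFun_irr hb),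
        if_pos rfl, if_pos rfl, if_neg (hmne χ₀ hχ₀).symm, if_neg (hmne χ₀ hχ₀)] at h <;>
      norm_num at h
  obtain ⟨e, C, hB⟩ := hblk θ hθ
  refine ⟨e, C, hB, fun χ hχ φ hφ => ?_⟩
  rcases eq_or_ne χ φ with rfl | hne
  · rfl
  have hχ' := hB.subset hχ
  have hφ' := hB.subset hφ
  have hsupp : ∀ x : M, (x : G) ∉ Cfsg.Agent.Lib.OddOrder.TypeOne.typeA M → (χ - φ) x = 0 := by
    intro x hx
    by_cases hx1 : x = 1
    · subst hx1; simp [hB.degree χ hχ φ hφ]
    · simp [supported hI hχ' x hx1 hx, supported hI hφ' x hx1 hx]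
  have hclv : Cfsg.IsClassFunction M (χ - φ) := Characters.Complete.classFun_sub
    (isClassFunction_irr ⟨χ, hirr χ hχ'⟩) (isClassFunction_irr ⟨φ, hirr φ hφ'⟩)
  set v := Cfsg.dadeIsometry (Cfsg.Agent.Lib.OddOrder.TypeOne.typeA M) M (Cfsg.supportR M) (χ - φ) with hv
  have hvgen : Cfsg.IsGeneralizedCharacter G v := DadeGen.gen_dade hD
    (Inner.gen_sub (Inner.gen_of_irr (hirr χ hχ')) (Inner.gen_of_irr (hirr φ hφ'))) hsupp
  have hvn : Cfsg.classInner v v = 2 := by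
    rw [hv, Dade.classInner_dade_dade hD hclv hsupp hclv, classInner_sub_left,
      classInner_sub_right, classInner_sub_right, Inner.classInner_irr_eq (hirr χ hχ') (hirr χ hχ'),
      Inner.classInner_irr_eq (hirr χ hχ') (hirr φ hφ'),
      Inner.classInner_irr_eq (hirr φ hφ') (hirr χ hχ'),
      Inner.classInner_irr_eq (hirr φ hφ') (hirr φ hφ'), if_pos rfl, if_pos rfl, if_neg hne,
      if_neg hne.symm]
    norm_num
  have hnc : φ ≠ Cfsg.conjFun χ := fun h => hB.conj_not_mem χ hχ (h ▸ hφ)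
  have hnc' : χ ≠ Cfsg.conjFun φ := fun h => hB.conj_not_mem φ hφ (h ▸ hχ)
  have hcoef : ∀ ζ ∈ C, (ζ = χ ∨ ζ = φ) →
      Cfsg.classInner v (m ζ) - Cfsg.classInner v (Cfsg.conjFun (m ζ)) ≠ 0 := by
    intro ζ hζ hor
    have hz := hB.subset hζ
    rw [← classInner_sub_right, ← hmτ ζ hz, hv, Dade.classInner_dade_dade hD hclv hsupp (hcl ζ hz)]
    simp only [classInner_sub_left, classInner_sub_right]
    rw [Inner.classInner_irr_eq (hirr χ hχ') (hirr ζ hz),
      Inner.classInner_irr_eq (hirr χ hχ') (Inner.conjFun_irr (hirr ζ hz)),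
      Inner.classInner_irr_eq (hirr φ hφ') (hirr ζ hz),
      Inner.classInner_irr_eq (hirr φ hφ') (Inner.conjFun_irr (hirr ζ hz))]
    rcases hor with rfl | rfl
    · rw [if_pos rfl, if_neg (conj_ne hodd hz).symm, if_neg hne.symm, if_neg hnc]; norm_num
    · rw [if_neg hne, if_neg hnc', if_pos rfl, if_neg (conj_ne hodd hz).symm]; norm_num
  obtain ⟨hd1, hd2⟩ := hdist χ hχ' φ hφ' hne.symm hnc
  have hkey : ∀ ν : G → ℂ, (hν : Cfsg.IsIrrCharacter G ν) → (ν = μ ∨ ν = Cfsg.conjFun μ) →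
      Cfsg.classInner v ν = 0 := by
    intro ν hν hor
    obtain ⟨n1, n2⟩ := hnot χ hχ'
    obtain ⟨n3, n4⟩ := hnot φ hφ'
    refine coeff_eq_zero (a := ⟨_, hm χ hχ'⟩) (b := ⟨_, Inner.conjFun_irr (hm χ hχ')⟩)
      (a' := ⟨_, hm φ hφ'⟩) (b' := ⟨_, Inner.conjFun_irr (hm φ hφ')⟩) (ν := ⟨ν, hν⟩) hvgen hvn
      (hcoef χ hχ (Or.inl rfl)) (hcoef φ hφ (Or.inr rfl)) ?_ ?_ ?_ ?_ ?_
    · exact fun h => hd1 (congrArg Subtype.val h)
    · exact fun h => hd2 (congrArg Subtype.val h)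
    · exact fun h => hd2 (by rw [← show Cfsg.conjFun (m χ) = m φ from congrArg Subtype.val h,
        Inner.conjFun_conjFun])
    · intro h
      apply hd1
      have := congrArg Cfsg.conjFun (show Cfsg.conjFun (m χ) = Cfsg.conjFun (m φ) from
        congrArg Subtype.val h)
      rwa [Inner.conjFun_conjFun, Inner.conjFun_conjFun] at this
    · have key : ∀ X : G → ℂ, μ ≠ X → μ ≠ Cfsg.conjFun X → ν ≠ X ∧ ν ≠ Cfsg.conjFun X := by
        intro X h1 h2
        rcases hor with rfl | rfl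
        · exact ⟨h1, h2⟩
        · exact ⟨fun h => h2 (by rw [← h, Inner.conjFun_conjFun]),
            fun h => h1 (by simpa [Inner.conjFun_conjFun] using congrArg Cfsg.conjFun h)⟩
      obtain ⟨k1, k2⟩ := key _ n1 n2
      obtain ⟨k3, k4⟩ := key _ n3 n4
      exact ⟨fun h => k1 (congrArg Subtype.val h), fun h => k2 (congrArg Subtype.val h),
        fun h => k3 (congrArg Subtype.val h), fun h => k4 (congrArg Subtype.val h)⟩
  have hψ0 : Cfsg.classInner v ψ = 0 := by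
    rcases hψ with rfl | rfl
    · exact hkey _ hμ (Or.inl rfl)
    · rw [Inner.classInner_neg_right, hkey _ (Inner.conjFun_irr hμ) (Or.inr rfl), neg_zero]
  have hψcl : Cfsg.IsClassFunction G ψ := by
    rcases hψ with rfl | rfl
    · exact isClassFunction_irr ⟨_, hμ⟩
    · intro a b
      show -conj (μ (b * a * b⁻¹)) = -conj (μ a)
      rw [show μ (b * a * b⁻¹) = μ a from isClassFunction_irr ⟨μ, hμ⟩ a b]
  rw [hv, Avg.classInner_dade hD subset_rfl hclv hsupp hψcl, classInner_sub_left, sub_eq_zero] at hψ0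
  rw [← classInner_conj_symm χ, ← classInner_conj_symm φ, hψ0]

end Cfsg.Agent.Lib.OddOrder.PF12.MSide
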