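import Cfsg.Agent.Lib.OddOrder.TypeOne
import Cfsg.Agent.Lib.OddOrder.PF12.Avg
import Cfsg.Agent.Lib.OddOrder.PF12.Coherent
import Cfsg.Agent.Lib.OddOrder.PF12.MSide
import Cfsg.Agent.S1525

/-!
# Peterfalvi (12.5), (12.6): the side of the Frobenius subgroup `L`

A character `ψ` of `G` attached to a linear character of `L_F`, whose average over `R(a)` is the
induced character on `L_F#`.

Owner: helper8.
-/

set_option autoImplicit false

namespace Cfsg.Agent.Lib.OddOrder.PF12.LSide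

open scoped ComplexConjugate Classical commutatorElement
open Cfsg.Agent.Lib.Isometry Cfsg.Agent.Lib.Induced.Basic Cfsg.Agent.Lib.Characters.Basic
open Cfsg.Agent.Lib.OddOrder.Interface

universe u

variable {G : Type u} [Group G] [Fintype G]

/-- The linear character of `H` induced to `L`, its sum and norm off the identity. -/
theorem sum_facts {L : Type u} [Group L] [Fintype L] (H : Subgroup L) [H.Normal] {χ : L → ℂ}
    (hχ : χ ∈ Inflate.layer H ⊥) (hoff : ∀ x ∉ H, χ x = 0) (n : ℤ) :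
    ∑ a ∈ Finset.univ.filter (fun a => a ∈ H ∧ a ≠ 1), (χ a + n) * conj (χ a + n) =
      (Nat.card L : ℂ) - χ 1 * χ 1 - 2 * n * χ 1 + (n : ℂ) * n * ((Nat.card H : ℂ) - 1) := by
  obtain ⟨hirr, -, g, hg, hne⟩ := Inflate.mem_layer.1 hχ
  set s := Finset.univ.filter (fun a : L => a ∈ H ∧ a ≠ 1) with hs
  have hreal : conj (χ 1) = χ 1 := conj_apply_one (IsCharacter_of_isIrrCharacter hirr)
  have hsplit : ∀ f : L → ℂ, (∀ x ∉ H, f x = 0) → ∑ a ∈ s, f a = (∑ a : L, f a) - f 1 := by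
    intro f hf
    rw [eq_sub_iff_add_eq, ← Finset.sum_filter_of_ne (s := Finset.univ) (p := fun a => a ∈ H)
      (f := f) (fun x _ h => by by_contra hx; exact h (hf x hx))]
    rw [show Finset.univ.filter (fun a : L => a ∈ H) = insert 1 s by
      ext a; simp [hs]; by_cases ha : a = 1 <;> simp [ha, H.one_mem],
      Finset.sum_insert (by simp [hs]), add_comm]
  have hn : ∑ a : L, χ a * conj (χ a) = (Nat.card L : ℂ) := by
    have := Inner.classInner_irr_eq hirr hirr
    rw [if_pos rfl, Cfsg.classInner] at this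
    have hne0 : (Nat.card L : ℂ) ≠ 0 := Nat.cast_ne_zero.2 Nat.card_pos.ne'
    field_simp at this
    exact this
  have hone : ∑ a : L, χ a = 0 := by
    have := Inner.classInner_irr_eq hirr (oneChar L).2
    rw [if_neg (fun e => hne (by rw [e]; rfl)), Cfsg.classInner, mul_eq_zero] at this
    simpa [oneChar_apply] using this.resolve_left (inv_ne_zero (Nat.cast_ne_zero.2 Nat.card_pos.ne'))
  have hcard : (s.card : ℂ) = (Nat.card H : ℂ) - 1 := by
    rw [eq_sub_iff_add_eq, Nat.card_eq_fintype_card, Fintype.card_subtype]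
    have h1 : (Finset.univ.filter fun a : L => a ∈ H) = insert 1 s := by
      ext a; simp [hs]; by_cases ha : a = 1 <;> simp [ha, H.one_mem]
    rw [h1, Finset.card_insert_of_notMem (by simp [hs])]
    push_cast; rfl
  calc ∑ a ∈ s, (χ a + n) * conj (χ a + n)
      = ∑ a ∈ s, χ a * conj (χ a) + (n : ℂ) * ∑ a ∈ s, χ a + (n : ℂ) * ∑ a ∈ s, conj (χ a) +
          (n : ℂ) * n * (s.card : ℂ) := by
        rw [Finset.mul_sum, Finset.mul_sum, mul_comm ((n : ℂ) * n) (s.card : ℂ), ← nsmul_eq_mul,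
          ← Finset.sum_const, ← Finset.sum_add_distrib, ← Finset.sum_add_distrib,
          ← Finset.sum_add_distrib]
        exact Finset.sum_congr rfl fun a _ => by rw [map_add, map_intCast]; ring
    _ = _ := by
        rw [hsplit _ (fun x hx => by rw [hoff x hx, zero_mul]), hsplit χ hoff,
          hsplit (fun a => conj (χ a)) (fun x hx => by rw [hoff x hx, map_zero]), hn, hone,
          ← map_sum, hone, map_zero, hcard, hreal]
        ring

/-- What is needed from `L`. -/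
structure Data (L : Subgroup G) [Fintype L] (χ : L → ℂ) (ψ μ : G → ℂ) : Prop where
  degree : χ 1 = ((Cfsg.fittingHall L).index : ℂ)
  gen_chi : Cfsg.IsGeneralizedCharacter L χ
  norm_sum : ∑ a ∈ Finset.univ.filter (fun a : L => a ∈ Cfsg.fittingHall L ∧ a ≠ 1),
    χ a * conj (χ a) = (Nat.card L : ℂ) - χ 1 * χ 1
  irr : Cfsg.IsIrrCharacter G μ
  conj_ne : Cfsg.conjFun μ ≠ μ
  supp : ∀ g : G, g ∉ Cfsg.tildeOf L (Cfsg.Agent.Lib.OddOrder.TypeOne.typeA L) → μ g - conj (μ g) = 0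
  sign : ψ = μ ∨ ψ = -Cfsg.conjFun μ
  avg_eq : ∀ a ∈ Cfsg.fittingHall L, a ≠ 1 → Avg.avg L ψ a = χ a

/-- (12.5). -/
theorem exists_data (L : Subgroup G) [Fintype L] (hI : Cfsg.Agent.Lib.OddOrder.TypeOne.IsTypeI L)
    (hfrob : ∀ x ∈ Cfsg.fittingHallOf L, x ≠ 1 →
      L ⊓ Subgroup.centralizer ({x} : Set G) ≤ Cfsg.fittingHallOf L)
    (hD : Cfsg.DadeHypothesis (Cfsg.Agent.Lib.OddOrder.TypeOne.typeA L) L (Cfsg.supportR L))
    (hcoh : Cfsg.IsCoherent (Cfsg.inducedIrrAbove (Cfsg.fittingHall L) ⊥) {1}ᶜ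
      (Cfsg.dadeIsometry (Cfsg.Agent.Lib.OddOrder.TypeOne.typeA L) L (Cfsg.supportR L)))
    (hbound : ((Cfsg.fittingHall L).index + 1) ^ 2 < Nat.card (Cfsg.fittingHall L)) :
    ∃ χ ψ μ, Data L χ ψ μ := by
  have hne : Cfsg.fittingHall L ≠ ⊥ := hI.1.2.2.1
  have hodd : Odd (Nat.card L) := hI.1.2.1
  haveI hnil := (Basic.fittingHall_spec L).1
  haveI : Fintype (Cfsg.fittingHall L) := Fintype.ofFinite _
  have hC := Coherent.centralizer_le hfrob
  have hcoe := KernelInduced.coe_layer_eq (Cfsg.fittingHall L) hC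
  -- a nontrivial linear character
  haveI : Nontrivial (Cfsg.fittingHall L) := (Subgroup.nontrivial_iff_ne_bot _).2 hne
  haveI : Group.IsSolvable (Cfsg.fittingHall L) := inferInstance
  obtain ⟨Λ, hΛc, -, -⟩ := Clifford.exists_dual (commutator (Cfsg.fittingHall L))
    fun x y => Subgroup.commutator_mem_commutator (Subgroup.mem_top x) (Subgroup.mem_top y)
  obtain ⟨l, -, hl⟩ : ∃ l ∈ Λ, l ≠ 1 := by
    by_contra! hall
    have h1 : Λ.card ≤ 1 := Finset.card_le_one.2 fun a ha b hb => (hall a ha).trans (hall b hb).symm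
    rw [hΛc] at h1
    have h2 := Subgroup.index_ne_zero_of_finite (H := commutator (Cfsg.fittingHall L))
    exact (Group.IsSolvable.commutator_lt_top_of_nontrivial (Cfsg.fittingHall L)).ne
      (Subgroup.index_eq_one.1 (by omega))
  set θ : Cfsg.IrrCharacter (Cfsg.fittingHall L) := Characters.Linear.linChar l with hθ
  have hθ1 : (θ : Cfsg.fittingHall L → ℂ) ≠ fun _ => 1 := fun e => hl
    (MonoidHom.ext fun g => Units.ext (congrFun e g))
  have hθone : (θ : Cfsg.fittingHall L → ℂ) 1 = 1 := by simp [hθ, Characters.Linear.linChar_apply]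
  set χ := Cfsg.indFun (Cfsg.fittingHall L) (θ : Cfsg.fittingHall L → ℂ) with hχdef
  have hχS : χ ∈ Cfsg.inducedIrrAbove (Cfsg.fittingHall L) ⊥ :=
    ⟨θ, θ.2, hθ1, fun a ha => by rw [Subtype.ext (Subgroup.mem_bot.1 ha) (a1 := a) (a2 := 1)], rfl⟩
  have hχlayer : χ ∈ Inflate.layer (Cfsg.fittingHall L) ⊥ := by
    rw [← Finset.mem_coe, hcoe]; exact hχS
  have hirr : Cfsg.IsIrrCharacter L χ := (Inflate.mem_layer.1 hχlayer).1
  have hoff : ∀ x ∉ Cfsg.fittingHall L, χ x = 0 := fun x hx =>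
    indFun_eq_zero_of_not_mem_normal _ _ hx
  have he : χ 1 = ((Cfsg.fittingHall L).index : ℂ) := by rw [hχdef, indFun_one, hθone, mul_one]
  obtain ⟨-, τ₁, hτ₁, hag⟩ := hcoh
  have hz : χ ∈ Cfsg.zspan (Cfsg.inducedIrrAbove (Cfsg.fittingHall L) ⊥) := Inner.subset_zspan _ hχS
  set ψ := τ₁ χ with hψdef
  have hψgen : Cfsg.IsGeneralizedCharacter G ψ := hτ₁.2.2.2 χ hz
  have hψcl := Inner.gen_classFun hψgen
  have hψn : Cfsg.classInner ψ ψ = 1 := by
    rw [hτ₁.2.2.1 χ hz χ hz, Inner.classInner_irr_eq hirr hirr, if_pos rfl]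
  have hnA : ∀ x : L, (x : G) ∉ Cfsg.Agent.Lib.OddOrder.TypeOne.typeA L ↔ (x = 1 ∨ x ∉ Cfsg.fittingHall L) :=
    fun x => Coherent.not_mem_typeA hI hfrob
  obtain ⟨μ, hμ, hμτ⟩ := Cfsg.Agent.S1518.result (Cfsg.Agent.Lib.OddOrder.TypeOne.typeA L) L (Cfsg.supportR L) hD χ hirr
    fun x hx1 hx => hoff x (((hnA x).1 hx).resolve_left hx1)
  have hχcS : Cfsg.conjFun χ ∈ Cfsg.inducedIrrAbove (Cfsg.fittingHall L) ⊥ := by
    rw [← hcoe] at hχS ⊢
    exact Inflate.conj_mem_layer hχS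
  have hdiff : χ - Cfsg.conjFun χ ∈ Cfsg.zspanOn (Cfsg.inducedIrrAbove (Cfsg.fittingHall L) ⊥) {1}ᶜ :=
    Inner.mem_zspanOn_one.2 ⟨(Submodule.span ℤ _).sub_mem hz (Inner.subset_zspan _ hχcS),
      by simp [Cfsg.conjFun, conj_apply_one (IsCharacter_of_isIrrCharacter hirr)]⟩
  have hχne : Cfsg.conjFun χ ≠ χ := MSide.conj_ne hodd hχlayer
  have hψμ : Cfsg.classInner ψ (μ - Cfsg.conjFun μ) = 1 := by
    rw [← hμτ, ← hag _ hdiff, hτ₁.2.2.1 χ hz _ hdiff.1, classInner_sub_right,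
      Inner.classInner_irr_eq hirr hirr, Inner.classInner_irr_eq hirr (Inner.conjFun_irr hirr),
      if_pos rfl, if_neg hχne.symm, sub_zero]
  have hμne : Cfsg.conjFun μ ≠ μ := by
    intro e
    rw [e, sub_self, classInner_zero_right] at hψμ
    exact zero_ne_one hψμ
  have hsign : ψ = μ ∨ ψ = -Cfsg.conjFun μ := by
    rcases Inner.signed_of_norm_one hψgen hψn with h | h
    · left
      rw [classInner_sub_right, Inner.classInner_irr_eq h hμ,
        Inner.classInner_irr_eq h (Inner.conjFun_irr hμ)] at hψμ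
      by_contra hne'
      rw [if_neg hne'] at hψμ
      split_ifs at hψμ <;> norm_num at hψμ
    · right
      obtain ⟨η, hη, hηψ⟩ : ∃ η, Cfsg.IsIrrCharacter G η ∧ ψ = -η := ⟨-ψ, h, (neg_neg ψ).symm⟩
      rw [hηψ, classInner_sub_right, Inner.classInner_neg_left, Inner.classInner_neg_left,
        Inner.classInner_irr_eq hη hμ, Inner.classInner_irr_eq hη (Inner.conjFun_irr hμ)] at hψμ
      rw [hηψ]
      rcases eq_or_ne η (Cfsg.conjFun μ) with e | e
      · rw [e]
      · rw [if_neg e] at hψμ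
        split_ifs at hψμ <;> norm_num at hψμ
  set f := Avg.avg L ψ with hfdef
  set h : ℕ := Nat.card (Cfsg.fittingHall L) with hhdef
  have hfcl : Cfsg.IsClassFunction L f := Avg.avg_classFun hD hψcl
  -- the difference `f - χ` is constant on `H#`
  set δ : L → ℂ := f - χ with hδdef
  have hδcl : Cfsg.IsClassFunction L δ :=
    Characters.Complete.classFun_sub hfcl (isClassFunction_indFun _ _)
  have hτδ : ∀ α : L → ℂ, α ∈ Cfsg.zspanOn (Cfsg.inducedIrrAbove (Cfsg.fittingHall L) ⊥) {1}ᶜ →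
      Cfsg.classInner α δ = 0 := by
    intro α hα
    rw [hδdef, classInner_sub_right, hfdef,
      ← Avg.classInner_dade hD subset_rfl (Coherent.classFun_of_mem hα.1)
        (Coherent.supported hI hfrob hα) hψcl,
      ← hag α hα, hψdef, hτ₁.2.2.1 α hα.1 χ hz, sub_self]
  haveI := Fintype.ofFinite (Cfsg.IrrCharacter (Cfsg.fittingHall L))
  set D : Cfsg.fittingHall L → ℂ := fun y => δ y with hDdef
  have hDcl : Cfsg.IsClassFunction (Cfsg.fittingHall L) D := fun a b => by
    simpa [hDdef] using hδcl (a : L) (b : L)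
  have hcoef : ∀ η : Cfsg.IrrCharacter (Cfsg.fittingHall L), η ≠ oneChar _ →
      Cfsg.classInner (η : Cfsg.fittingHall L → ℂ) D = (η : Cfsg.fittingHall L → ℂ) 1 * Cfsg.classInner (θ : Cfsg.fittingHall L → ℂ) D := by
    intro η hη
    obtain ⟨d, hd⟩ := exists_degree (isCharacter_irr η)
    have hηS : Cfsg.indFun (Cfsg.fittingHall L) (η : Cfsg.fittingHall L → ℂ) ∈
        Cfsg.inducedIrrAbove (Cfsg.fittingHall L) ⊥ :=
      ⟨η, η.2, fun e => hη (Subtype.ext (e.trans (funext fun y => (oneChar_apply y).symm))),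
        fun a ha => by rw [Subtype.ext (Subgroup.mem_bot.1 ha) (a1 := a) (a2 := 1)], rfl⟩
    have hmem : Cfsg.indFun (Cfsg.fittingHall L) (η : Cfsg.fittingHall L → ℂ) - (d : ℤ) • χ ∈
        Cfsg.zspanOn (Cfsg.inducedIrrAbove (Cfsg.fittingHall L) ⊥) {1}ᶜ := by
      refine Inner.mem_zspanOn_one.2 ⟨(Submodule.span ℤ _).sub_mem (Inner.subset_zspan _ hηS)
        ((Submodule.span ℤ _).smul_mem _ hz), ?_⟩
      rw [Pi.sub_apply, Pi.smul_apply, indFun_one, hd, he, zsmul_eq_mul]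
      push_cast
      ring
    have h0 := hτδ _ hmem
    rw [classInner_sub_left, ← Int.cast_smul_eq_zsmul ℂ, classInner_smul_left, hχdef,
      frobenius_reciprocity _ _ hδcl, frobenius_reciprocity _ _ hδcl, sub_eq_zero,
      Int.cast_natCast, ← hd] at h0
    exact h0
  have hconst : ∃ C : ℂ, ∀ y : Cfsg.fittingHall L, y ≠ 1 → D y = C := by
    refine ⟨Cfsg.classInner D (oneChar (Cfsg.fittingHall L) : Cfsg.fittingHall L → ℂ) -
      Cfsg.classInner D (θ : Cfsg.fittingHall L → ℂ), fun y hy => ?_⟩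
    have h1 := congrFun (Characters.Complete.classFunction_eq_sum hDcl) y
    rw [Finset.sum_apply] at h1
    have h2 : ∀ η : Cfsg.IrrCharacter (Cfsg.fittingHall L), η ≠ oneChar _ →
        Cfsg.classInner D (η : Cfsg.fittingHall L → ℂ) = (η : Cfsg.fittingHall L → ℂ) 1 * Cfsg.classInner D (θ : Cfsg.fittingHall L → ℂ) := by
      intro η hη
      rw [← classInner_conj_symm (η : Cfsg.fittingHall L → ℂ), hcoef η hη, map_mul,
        conj_apply_one (isCharacter_irr η), classInner_conj_symm]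
    have hreg := Characters.Complete.sum_degree_mul_apply (G := Cfsg.fittingHall L) y
    rw [if_neg hy] at hreg
    rw [← Finset.add_sum_erase _ _ (Finset.mem_univ (oneChar (Cfsg.fittingHall L)))] at h1 hreg
    rw [h1, Finset.sum_congr rfl fun (η : Cfsg.IrrCharacter (Cfsg.fittingHall L))
      (hη : η ∈ Finset.univ.erase (oneChar (Cfsg.fittingHall L))) => show
      (Cfsg.classInner D (η : Cfsg.fittingHall L → ℂ) • (η : Cfsg.fittingHall L → ℂ)) y =
        Cfsg.classInner D (θ : Cfsg.fittingHall L → ℂ) * ((η : Cfsg.fittingHall L → ℂ) 1 * (η : Cfsg.fittingHall L → ℂ) y) by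
        rw [Pi.smul_apply, smul_eq_mul, h2 η (Finset.ne_of_mem_erase hη)]; ring,
      ← Finset.mul_sum]
    simp only [Pi.smul_apply, oneChar_apply, smul_eq_mul, mul_one] at hreg ⊢
    linear_combination (Cfsg.classInner D (θ : Cfsg.fittingHall L → ℂ)) * hreg
  obtain ⟨C, hC'⟩ := hconst
  -- the constant is an integer
  set α₀ : L → ℂ := Cfsg.indFun (Cfsg.fittingHall L)
    ((oneChar (Cfsg.fittingHall L) : Cfsg.fittingHall L → ℂ) - (θ : Cfsg.fittingHall L → ℂ)) with hα₀
  have hα₀supp : ∀ x : L, (x : G) ∉ Cfsg.Agent.Lib.OddOrder.TypeOne.typeA L → α₀ x = 0 := by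
    intro x hx
    rcases (hnA x).1 hx with rfl | hx'
    · rw [hα₀, indFun_one, Pi.sub_apply, hθone, oneChar_apply, sub_self, mul_zero]
    · exact indFun_eq_zero_of_not_mem_normal _ _ hx'
  have hα₀gen : Cfsg.IsGeneralizedCharacter L α₀ := by
    rw [hα₀, indFun_sub]
    exact Inner.gen_sub (Inner.gen_of_isCharacter
      (Induced.Character.isCharacter_indFun _ (isCharacter_irr _)))
      (Inner.gen_of_isCharacter (Induced.Character.isCharacter_indFun _ (isCharacter_irr _)))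
  have hinner : Cfsg.classInner α₀ δ = conj C := by
    rw [hα₀, frobenius_reciprocity _ _ hδcl, Cfsg.classInner]
    have hsum : ∑ y : Cfsg.fittingHall L, ((1 : ℂ) - (θ : Cfsg.fittingHall L → ℂ) y) = (h : ℂ) := by
      have := classInner_irr_of_ne (χ := θ) (ψ := oneChar _)
        (fun e => hθ1 (by rw [e]; exact funext fun y => oneChar_apply y))
      rw [Cfsg.classInner, mul_eq_zero] at this
      have h0 := this.resolve_left (inv_ne_zero (Nat.cast_ne_zero.2 Nat.card_pos.ne'))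
      simp only [oneChar_apply, map_one, mul_one] at h0
      rw [Finset.sum_sub_distrib, h0, sub_zero, hhdef, Nat.card_eq_fintype_card]
      simp
    rw [Finset.sum_congr rfl (g := fun y => ((1 : ℂ) - (θ : Cfsg.fittingHall L → ℂ) y) * conj C) fun y _ => ?_,
      ← Finset.sum_mul, hsum, hhdef, ← mul_assoc,
      inv_mul_cancel₀ (Nat.cast_ne_zero.2 Nat.card_pos.ne'), one_mul]
    rw [Pi.sub_apply, oneChar_apply]
    rcases eq_or_ne y 1 with rfl | hy
    · rw [hθone, sub_self, zero_mul, zero_mul]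
    · rw [show δ (y : L) = D y from rfl, hC' y hy]
  obtain ⟨n, hn⟩ : ∃ n : ℤ, C = n := by
    obtain ⟨i, hi⟩ := Inner.classInner_gen_int (DadeGen.gen_dade hD hα₀gen hα₀supp) hψgen
    obtain ⟨j, hj⟩ := Inner.classInner_gen_int hα₀gen (Inner.gen_of_irr hirr)
    refine ⟨i - j, ?_⟩
    rw [Avg.classInner_dade hD subset_rfl (Inner.gen_classFun hα₀gen) hα₀supp hψcl, ← hfdef] at hi
    rw [hδdef, classInner_sub_right, hi, hj] at hinner
    rw [← Complex.conj_conj C, ← hinner]
    simp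
  have hval : ∀ a ∈ Cfsg.fittingHall L, a ≠ 1 → f a = χ a + (n : ℂ) := by
    intro a ha ha1
    have h0 := hC' ⟨a, ha⟩ (fun e => ha1 (congrArg Subtype.val e))
    rw [hn] at h0
    simp only [hDdef, hδdef, Pi.sub_apply] at h0
    linear_combination h0
  -- the norm inequality forces it to be zero
  have hzero : n = 0 := by
    by_contra hn0
    have h25 := Cfsg.Agent.S1525.result (Cfsg.Agent.Lib.OddOrder.TypeOne.typeA L) L (Cfsg.supportR L) hD ψ hψcl f
      fun a ha => Avg.avg_eq_of_mem ψ ha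
    set s := Finset.univ.filter (fun a : L => a ∈ Cfsg.fittingHall L ∧ a ≠ 1) with hs
    have hAset : {a : L | (a : G) ∈ Cfsg.Agent.Lib.OddOrder.TypeOne.typeA L} = (s : Set L) := by
      ext a
      have := hnA a
      simp only [Set.mem_setOf_eq, hs, Finset.coe_filter, Finset.mem_univ, true_and]
      tauto
    rw [hAset, finsum_mem_coe_finset] at h25
    have hG1 : (Nat.card G : ℝ)⁻¹ * ∑ᶠ g ∈ {g : G | ∃ a ∈ Cfsg.Agent.Lib.OddOrder.TypeOne.typeA L, ∃ u ∈ Cfsg.supportR L a,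
        ∃ x : G, x * g * x⁻¹ = a * u}, ‖ψ g‖ ^ 2 ≤ 1 := by
      have htot : ∑ g : G, ‖ψ g‖ ^ 2 = (Nat.card G : ℝ) := by
        have := hψn
        rw [Cfsg.classInner, inv_mul_eq_one₀ (Nat.cast_ne_zero.2 Nat.card_pos.ne')] at this
        simp only [Complex.mul_conj'] at this
        exact_mod_cast this.symm
      rw [finsum_mem_eq_toFinset_sum, inv_mul_le_one₀ (by exact_mod_cast Nat.card_pos), ← htot]
      exact Finset.sum_le_sum_of_subset_of_nonneg (Finset.subset_univ _) fun _ _ _ => sq_nonneg _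
    have hle := h25.trans hG1
    rw [inv_mul_le_one₀ (by exact_mod_cast Nat.card_pos)] at hle
    have hsum : ∑ a ∈ s, (χ a + n) * conj (χ a + n) = (Nat.card L : ℂ) - χ 1 * χ 1 -
        2 * n * χ 1 + (n : ℂ) * n * ((Nat.card (Cfsg.fittingHall L) : ℂ) - 1) := by
      convert sum_facts (Cfsg.fittingHall L) hχlayer hoff n
    rw [he, Finset.sum_congr rfl (g := fun a => ((‖f a‖ ^ 2 : ℝ) : ℂ)) fun a ha => by
      obtain ⟨-, ha, ha1⟩ := Finset.mem_filter.1 ha
      rw [Complex.mul_conj', hval a ha ha1, Complex.ofReal_pow], ← Complex.ofReal_sum] at hsum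
    have hsumR : ∑ a ∈ s, ‖f a‖ ^ 2 = (Nat.card L : ℝ) -
        ((Cfsg.fittingHall L).index : ℝ) * (Cfsg.fittingHall L).index -
        2 * (n : ℝ) * (Cfsg.fittingHall L).index + (n : ℝ) * n * ((h : ℝ) - 1) := by
      apply Complex.ofReal_injective
      rw [hsum, hhdef]
      push_cast
      ring
    rw [hsumR] at hle
    set e := (Cfsg.fittingHall L).index
    have hb : ((e : ℝ) + 1) ^ 2 + 1 ≤ (h : ℝ) := by exact_mod_cast hbound
    have h1 : (1 : ℝ) ≤ |(n : ℝ)| := by exact_mod_cast Int.one_le_abs hn0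
    have h3 : (0 : ℝ) ≤ e := Nat.cast_nonneg e
    nlinarith [sq_abs (n : ℝ), le_abs_self (n : ℝ), mul_le_mul_of_nonneg_left h1 (abs_nonneg (n : ℝ)),
      mul_nonneg (sub_nonneg.2 h1) h3,
      mul_nonneg (mul_nonneg (abs_nonneg (n : ℝ)) (abs_nonneg (n : ℝ))) (sub_nonneg.2 hb)]
  refine ⟨χ, ψ, μ, ⟨he, Inner.gen_of_irr hirr, ?_, hμ, hμne, ?_, hsign, fun a ha ha1 => ?_⟩⟩
  · have := sum_facts (Cfsg.fittingHall L) hχlayer hoff 0
    simpa using this
  · intro g hg
    have h0 := congrFun hμτ g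
    rw [← Avg.support_eq] at hg
    rw [Dade.dadeIsometry_eq_zero hg] at h0
    exact h0.symm
  · rw [← hfdef, hval a ha ha1, hzero, Int.cast_zero, add_zero]

end Cfsg.Agent.Lib.OddOrder.PF12.LSide
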