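import Cfsg.Agent.Lib.OddOrder.TypeOne
import Cfsg.Agent.Lib.OddOrder.PF12.Config
import Cfsg.Agent.Lib.OddOrder.PF12.Cong
import Cfsg.Agent.Lib.OddOrder.PF12.LSide
import Cfsg.Agent.Lib.OddOrder.PF12.MSide
import Cfsg.Agent.Lib.OddOrder.Interface.PF12

/-!
# Peterfalvi (12.12)-(12.16): the configuration is impossible

Owner: helper8.
-/

set_option autoImplicit false

namespace Cfsg.Agent.Lib.OddOrder.PF12.Contra

open scoped ComplexConjugate Classical commutatorElement
open Cfsg.Agent.Lib.Isometry Cfsg.Agent.Lib.Induced.Basic Cfsg.Agent.Lib.Characters.Basic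
open Cfsg.Agent.Lib.OddOrder.Interface

universe u

variable {G : Type u} [Group G] [Fintype G]

theorem supportR_eq_bot {M : Subgroup G} {a : G}
    (h : Subgroup.centralizer ({a} : Set G) ≤ M) : Cfsg.supportR M a = ⊥ := by
  rw [Cfsg.supportR, dif_neg (fun h' => h'.1 h)]

theorem indFun_conjC {M : Type u} [Group M] [Fintype M] (K : Subgroup M) [K.Normal] (g : M)
    (θ : K → ℂ) : Cfsg.indFun K (Clifford.Basic.conjC K g θ) = Cfsg.indFun K θ := by
  funext m
  by_cases hm : m ∈ K
  · rw [show m = ((⟨m, hm⟩ : K) : M) from rfl, Clifford.Basic.indFun_apply_normal,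
      Clifford.Basic.indFun_apply_normal]
    congr 1
    refine Fintype.sum_equiv (Equiv.mulLeft g) _ _ fun x => ?_
    rw [Equiv.coe_mulLeft, Clifford.Basic.conjC_mul]
  · rw [indFun_eq_zero_of_not_mem_normal K _ hm, indFun_eq_zero_of_not_mem_normal K _ hm]

theorem hom_sum_eq_zero {α : Type u} [Group α] [Fintype α] (s : Finset α) (f : α → ℂ) {c : α}
    (hc : ∀ y, y ∈ s ↔ c * y ∈ s) (hmul : ∀ y, f (c * y) = f c * f y) (hne : f c ≠ 1) :
    ∑ y ∈ s, f y = 0 := by
  have h : f c * ∑ y ∈ s, f y = ∑ y ∈ s, f y := by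
    rw [Finset.mul_sum]
    exact Finset.sum_equiv (Equiv.mulLeft c) hc fun y _ => (hmul y).symm
  exact (mul_eq_zero.1 (show (f c - 1) * ∑ y ∈ s, f y = 0 by linear_combination h)).resolve_left
    (sub_ne_zero.2 hne)

/-- No configuration exists. -/
theorem config_false (hG : Cfsg.IsMinSimpleOddOrder G) (hB : PF8.BG16 G)
    (h15 : PF8.Step_8_15 G) (h17 : PF8.Step_8_17 G) {p : ℕ} {M L : Subgroup G} {x y₀ : G}
    (C : Config p M L x y₀) : False := by
  haveI : Fintype M := Fintype.ofFinite _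
  haveI : Fintype L := Fintype.ofFinite _
  haveI hpp : Fact p.Prime := ⟨C.prime⟩
  set K := Cfsg.fittingHall M with hKdef
  have hDL := (h15 L C.coatom_L (Cfsg.Agent.Lib.OddOrder.TypeOne.typeA L) (Or.inr (Or.inl rfl))).2
  have hDM := (h15 M C.coatom_M (Cfsg.Agent.Lib.OddOrder.TypeOne.typeA M) (Or.inr (Or.inl rfl))).2
  have hD1 := (h15 M C.coatom_M (Cfsg.typeA1 M) (Or.inl rfl)).2
  have hA1 : Cfsg.typeA1 M ⊆ Cfsg.Agent.Lib.OddOrder.TypeOne.typeA M := fun a ha => Avg.typeA1_subset C.typeI_M ha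
  have hx1 : x ≠ 1 := fun e => C.prime.one_lt.ne (by rw [← C.order_x, e, orderOf_one])
  have hxA : x ∈ Cfsg.Agent.Lib.OddOrder.TypeOne.typeA M := by
    obtain ⟨c, hc, hxc, hcn⟩ := C.exists_c
    exact (Avg.mem_typeA C.typeI_M).2 ⟨C.x_mem_M, hx1, c, hc, fun e => hcn (e ▸ one_mem _), hxc⟩
  set xM : M := ⟨x, C.x_mem_M⟩ with hxM
  have hxK : xM ∉ K := by
    intro h
    refine C.not_dvd ?_
    rw [← C.order_x, show orderOf x = orderOf
      (⟨x, Avg.mem_fittingHall.1 h⟩ : Cfsg.fittingHallOf M) from (Subgroup.orderOf_mk _ _).symm]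
    exact orderOf_dvd_natCard _
  have hdisj : Cfsg.tildeOf M (Cfsg.typeA1 M) ∩ Cfsg.tildeOf L (Cfsg.Agent.Lib.OddOrder.TypeOne.typeA L) = ∅ := by
    refine ((h17 M L C.coatom_M C.coatom_L C.not_conj).2.2.2).resolve_right fun h => ?_
    have hm : x ∈ Cfsg.tildeOf L (Cfsg.typeA1 L) ∩ Cfsg.tildeOf M (Cfsg.Agent.Lib.OddOrder.TypeOne.typeA M) :=
      ⟨⟨x, (Avg.mem_typeA1 C.typeI_L).2 ⟨C.x_mem, hx1⟩, 1, one_mem _, 1, by simp⟩,
        ⟨x, hxA, 1, one_mem _, 1, by simp⟩⟩
    rw [h] at hm
    exact hm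
  -- the character `ψ` from `L`
  obtain ⟨χ, ψ, μ, hd⟩ := LSide.exists_data L C.typeI_L C.frob hDL
    (Coherent.step_12_6 hG h15 L C.coatom_L C.typeI_L C.frob).2 C.bound
  set e := (Cfsg.fittingHall L).index with hedef
  have hψgen : Cfsg.IsGeneralizedCharacter G ψ := by
    rcases hd.sign with h | h <;> rw [h]
    · exact Inner.gen_of_irr hd.irr
    · exact Inner.gen_neg (Inner.gen_of_irr (Inner.conjFun_irr hd.irr))
  have hψcl := Inner.gen_classFun hψgen
  have hψn : Cfsg.classInner ψ ψ = 1 := by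
    refine Inner.classInner_self_signed ?_
    rcases hd.sign with h | h <;> rw [h]
    · exact Or.inl hd.irr
    · exact Or.inr (by rw [neg_neg]; exact Inner.conjFun_irr hd.irr)
  set F := Avg.avg M ψ with hFdef
  have hFcl := Avg.avg_classFun hDM hψcl
  have hcoset : ∀ m k : M, m ∉ K → k ∈ K → F (m * k) = F m := fun m k hm hk =>
    Blocks.eq_on_cosets K hFcl (fun θ hθ => MSide.inner_eq (hodd := C.typeI_M.1.2.1) C.typeI_M hDM
      hdisj hd.irr hd.conj_ne hd.supp hd.sign θ hθ) hm hk
  have hFoff : ∀ m : M, m ∉ K → F m = ψ m := by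
    intro m hm
    rw [hFdef, Avg.avg]
    split_ifs with hA
    · have hc : Subgroup.centralizer ({(m : G)} : Set G) ≤ M := by
        by_contra hc
        exact hm (Avg.mem_fittingHall.2 ((Avg.mem_typeA1 C.typeI_M).1
          ((hB.embed M C.coatom_M _ (Or.inl rfl)).2.1 _ hA hc).1).1)
      rw [supportR_eq_bot hc, Subgroup.card_bot, Subgroup.coe_bot, finsum_mem_singleton]
      simp
    · rfl
  have hψcoset : ∀ k : M, k ∈ K → ψ (x * (k : G)) = ψ x := by
    intro k hk
    have hmk : xM * k ∉ K := fun h => hxK ((K.mul_mem_cancel_right hk).1 h)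
    have h := hcoset xM k hxK hk
    rw [hFoff _ hmk, hFoff _ hxK] at h
    exact h
  -- the value at `x`
  have hψx : Cong.Cong p (ψ x) (e : ℂ) := by
    have hxL : x ∈ L := Subgroup.map_subtype_le _ C.x_mem
    have hval := hd.avg_eq ⟨x, hxL⟩ (Avg.mem_fittingHall.2 C.x_mem)
      (fun h => hx1 (congrArg Subtype.val h))
    have hA : x ∈ Cfsg.Agent.Lib.OddOrder.TypeOne.typeA L := Avg.typeA1_subset C.typeI_L
      ((Avg.mem_typeA1 C.typeI_L).2 ⟨C.x_mem, hx1⟩)
    rw [Avg.avg_eq_of_mem ψ (a := (⟨x, hxL⟩ : L)) hA] at hval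
    have hR : ∀ u ∈ Cfsg.supportR L x, u ∈ Cfsg.fittingHallOf M := by
      intro u hu
      rw [Cfsg.supportR] at hu
      split_ifs at hu with h
      · have hch := Classical.choose_spec h.2.exists
        rw [C.unique _ hch.1 hch.2] at hu
        exact hu.1
      · rw [Subgroup.mem_bot.1 hu]; exact one_mem _
    have hconst : ∀ u ∈ (Cfsg.supportR L x : Set G), ψ (x * u) = ψ x := fun u hu =>
      hψcoset ⟨u, Subgroup.map_subtype_le _ (hR u hu)⟩ (Avg.mem_fittingHall.2 (hR u hu))
    rw [finsum_mem_congr rfl hconst, finsum_mem_eq_toFinset_sum, Finset.sum_const, nsmul_eq_mul,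
      Set.toFinset_card, ← Nat.card_eq_fintype_card, SetLike.coe_sort_coe, ← mul_assoc,
      inv_mul_cancel₀ (by exact_mod_cast Nat.card_pos.ne'), one_mul] at hval
    rw [hval, ← hd.degree]
    have := Cong.gen_mul hd.gen_chi C.prime (x := (⟨x, hxL⟩ : L)) (y := 1)
      (by rw [Subgroup.orderOf_mk, C.order_x]) (by simp)
    rwa [mul_one] at this
  have hψy : ∀ y : M, y ∈ K → x * (y : G) = y * x → Cong.Cong p (ψ y) (e : ℂ) := fun y hy hc =>
    Cong.trans (Cong.symm (Cong.gen_mul hψgen C.prime C.order_x hc))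
      (by rw [hψcoset y hy]; exact hψx)
  -- a linear character of `K` fixed by `x`
  set cx : K →* K := (MulAut.conjNormal xM).toMonoidHom with hcx
  obtain ⟨c, hcK, hxc, hcn⟩ := C.exists_c
  set c' : K := ⟨⟨c, Subgroup.map_subtype_le _ hcK⟩, Avg.mem_fittingHall.2 hcK⟩ with hc'def
  obtain ⟨Λ, -, -, hΛs⟩ := Clifford.exists_dual (commutator K)
    fun a b => Subgroup.commutator_mem_commutator (Subgroup.mem_top a) (Subgroup.mem_top b)
  have hc'n : c' ∉ commutator K := by
    intro h
    refine hcn ?_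
    have h1 := Subgroup.mem_map_of_mem K.subtype h
    rw [commutator_def, Subgroup.map_commutator, ← MonoidHom.range_eq_map,
      Subgroup.range_subtype] at h1
    have h2 := Subgroup.mem_map_of_mem M.subtype h1
    rw [Subgroup.map_commutator] at h2
    exact h2
  obtain ⟨lam, hlam⟩ : ∃ lam : K →* ℂˣ, lam c' ≠ 1 := by
    by_contra! hall
    have h1 := hΛs c'
    rw [if_neg hc'n, Finset.sum_congr rfl fun l _ => by rw [hall l, Units.val_one]] at h1
    have h2 := hΛs 1
    rw [if_pos (one_mem _)] at h2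
    simp only [map_one, Units.val_one] at h2
    exact Subgroup.index_ne_zero_of_finite (Nat.cast_eq_zero.1 (h2.symm.trans h1))
  have hxpow : ∀ (i : ℕ) (n : K), ((MulAut.conjNormal (xM ^ i) : MulAut K) n : M) =
      xM ^ i * n * (xM ^ i)⁻¹ := fun i n => MulAut.conjNormal_apply _ _
  have hxMp : xM ^ p = 1 := Subtype.ext (by simp [hxM, ← C.order_x, pow_orderOf_eq_one])
  set θ₀ : K →* ℂˣ := ∏ i ∈ Finset.range p, lam.comp (MulAut.conjNormal (xM ^ i)).toMonoidHom
    with hθ₀
  have hθ₀fix : ∀ n : K, θ₀ (cx n) = θ₀ n := by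
    intro n
    simp only [hθ₀, hcx, MonoidHom.finset_prod_apply, MonoidHom.comp_apply,
      MulEquiv.coe_toMonoidHom]
    set g : ℕ → ℂˣ := fun i => lam ((MulAut.conjNormal (xM ^ i) : MulAut K) n) with hg
    have hs : ∀ i : ℕ, lam ((MulAut.conjNormal (xM ^ i) : MulAut K)
        ((MulAut.conjNormal xM : MulAut K) n)) = g (i + 1) := fun i => by
      simp only [hg]
      rw [pow_succ, map_mul, MulAut.mul_apply]
    rw [Finset.prod_congr rfl fun i _ => hs i]
    have hg0 : g p = g 0 := by simp only [hg, hxMp, pow_zero]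
    show ∏ i ∈ Finset.range p, g (i + 1) = ∏ i ∈ Finset.range p, g i
    have := Finset.prod_range_succ g p
    rw [Finset.prod_range_succ' g p, hg0] at this
    exact mul_right_cancel this
  have hθ₀c : ∀ n : K, (xM : M) * n = n * xM → θ₀ n = lam n ^ p := by
    intro n hn
    simp only [hθ₀, MonoidHom.finset_prod_apply, MonoidHom.comp_apply, MulEquiv.coe_toMonoidHom]
    rw [Finset.prod_congr rfl (g := fun _ => lam n) fun i _ => ?_, Finset.prod_const, Finset.card_range]
    congr 1
    refine Subtype.ext ?_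
    rw [hxpow, ((show Commute xM (n : M) from hn).pow_left i).eq, mul_inv_cancel_right]
  have hKcard : Nat.card K = Nat.card (Cfsg.fittingHallOf M) :=
    (Subgroup.card_map_of_injective M.subtype_injective).symm
  have hcopK : p.Coprime (Nat.card K) :=
    C.prime.coprime_iff_not_dvd.2 (hKcard ▸ C.not_dvd)
  have hc'comm : xM * (c' : M) = c' * xM := Subtype.ext hxc
  have hθ₀ne : θ₀ c' ≠ 1 := by
    rw [hθ₀c c' hc'comm]
    intro h
    refine hlam (orderOf_eq_one_iff.1 (Nat.eq_one_of_dvd_coprimes hcopK (orderOf_dvd_of_pow_eq_one h) ?_))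
    exact (orderOf_map_dvd lam c').trans (orderOf_dvd_natCard c')
  set yM : M := ⟨y₀, C.y_mem⟩ with hyM
  have hxyM : Commute xM yM := Subtype.ext C.comm
  set η : ℕ → Cfsg.IrrCharacter K := fun i => Characters.Linear.linChar
    (θ₀.comp (MulAut.conjNormal (yM ^ i)).toMonoidHom) with hη
  have hηfix : ∀ i (n : K), (η i : K → ℂ) (cx n) = (η i : K → ℂ) n := by
    intro i n
    simp only [hη, Characters.Linear.linChar_apply, MonoidHom.comp_apply, MulEquiv.coe_toMonoidHom]
    congr 1
    rw [← hθ₀fix ((MulAut.conjNormal (yM ^ i) : MulAut K) n)]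
    simp only [hcx, MulEquiv.coe_toMonoidHom]
    rw [← MulAut.mul_apply, ← map_mul, ← MulAut.mul_apply, ← map_mul, (hxyM.pow_right i).eq]
  have hηmul : ∀ i (a b : K), (η i : K → ℂ) (a * b) = (η i : K → ℂ) a * (η i : K → ℂ) b := by
    intro i a b
    simp [hη, Characters.Linear.linChar_apply]
  have hηone : ∀ i, (η i : K → ℂ) 1 = 1 := fun i => by simp [hη, Characters.Linear.linChar_apply]
  have hηc : ∀ i, ∃ d : K, cx d = d ∧ (η i : K → ℂ) d ≠ 1 := by
    intro i
    refine ⟨(MulAut.conjNormal (yM ^ i)⁻¹ : MulAut K) c', ?_, ?_⟩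
    · simp only [hcx, MulEquiv.coe_toMonoidHom]
      rw [← MulAut.mul_apply, ← map_mul, ((hxyM.pow_right i).inv_right).eq, map_mul, MulAut.mul_apply]
      congr 1
      refine Subtype.ext ?_
      rw [MulAut.conjNormal_apply, hc'comm, mul_inv_cancel_right]
    · simp only [hη, Characters.Linear.linChar_apply, MonoidHom.comp_apply, MulEquiv.coe_toMonoidHom]
      rw [← MulAut.mul_apply, ← map_mul, mul_inv_cancel, map_one, MulAut.one_apply]
      exact fun h => hθ₀ne (Units.ext h)
  have hyMp : yM ^ p = 1 := Subtype.ext (by simp [hyM, ← C.order_y, pow_orderOf_eq_one])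
  have hηinj : Set.InjOn η (Finset.range p) := by
    intro i hi j hj hij
    simp only [Finset.coe_range, Set.mem_Iio] at hi hj
    by_contra hne
    wlog hlt : i < j generalizing i j
    · exact this hij.symm hj hi (Ne.symm hne) (by omega)
    set θ : Cfsg.IrrCharacter K := η i with hθdef
    have hfix : Clifford.Basic.conjC K (yM ^ (j - i)) (θ : K → ℂ) = θ := by
      funext n
      have hj' := congrFun (congrArg Subtype.val hij.symm) n
      rw [Clifford.Basic.conjC_apply]
      refine Eq.trans ?_ hj'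
      simp only [hθdef, hη, Characters.Linear.linChar_apply, MonoidHom.comp_apply,
        MulEquiv.coe_toMonoidHom]
      congr 2
      refine Subtype.ext ?_
      simp only [MulAut.conjNormal_apply]
      rw [show j = i + (j - i) by omega, pow_add, show i + (j - i) - i = j - i by omega]
      group
    obtain ⟨d, hd1, hd2⟩ := hηc i
    obtain ⟨h, hh, hh1, hcomm⟩ := (Cfsg.Agent.S1536.result K (Basic.fittingHall_spec M).2
      (yM ^ (j - i))).1 ⟨θ, θ.2, fun e => hd2 (congrFun e d), hfix⟩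
    have hcop : Nat.Coprime (j - i) p :=
      (C.prime.coprime_iff_not_dvd.2 (Nat.not_dvd_of_pos_of_lt (by omega) (by omega))).symm
    obtain ⟨m, -, hm⟩ := Nat.exists_mul_mod_eq_one_of_coprime hcop C.prime.one_lt
    have hy : (yM ^ (j - i)) ^ m = yM := by
      rw [← pow_mul, ← Nat.div_add_mod ((j - i) * m) p, hm, pow_add, pow_mul, hyMp, one_pow,
        one_mul, pow_one]
    have := ((show Commute (yM ^ (j - i)) h from hcomm).pow_left m).eq
    rw [hy] at this
    exact hh1 (Subtype.ext (C.fpf _ (Avg.mem_fittingHall.1 hh) (congrArg Subtype.val this)))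
  -- the integer `a`
  set β : ℕ → K → ℂ := fun i n => 1 - (η i : K → ℂ) n with hβ
  set α : ℕ → M → ℂ := fun i => Cfsg.indFun K (β i) with hα
  have hαeq : ∀ i, α i = α 0 := by
    intro i
    simp only [hα]
    rw [show β i = Clifford.Basic.conjC K (yM ^ i) (β 0) from ?_, indFun_conjC]
    funext n
    simp only [hβ, hη, Clifford.Basic.conjC_apply, Characters.Linear.linChar_apply,
      MonoidHom.comp_apply, MulEquiv.coe_toMonoidHom]
    congr 3
    refine Subtype.ext ?_
    simp only [MulAut.conjNormal_apply]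
    simp
  have hαsupp : ∀ m : M, (m : G) ∉ Cfsg.Agent.Lib.OddOrder.TypeOne.typeA M → α 0 m = 0 := by
    intro m hm
    by_cases hmK : m ∈ K
    · by_cases hm1 : m = 1
      · subst hm1; simp [hα, hβ, indFun_one, hηone]
      · exact absurd (Avg.typeA1_subset C.typeI_M ((Avg.mem_typeA1 C.typeI_M).2
          ⟨Avg.mem_fittingHall.1 hmK, fun h => hm1 (Subtype.ext h)⟩)) hm
    · exact indFun_eq_zero_of_not_mem_normal K _ hmK
  have hαgen : Cfsg.IsGeneralizedCharacter M (α 0) := by
    have e1 : β 0 = (oneChar K : K → ℂ) - (η 0 : K → ℂ) := funext fun n => by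
      simp [hβ, oneChar_apply]
    simp only [hα, e1, indFun_sub]
    exact Inner.gen_sub (Inner.gen_of_isCharacter
      (Induced.Character.isCharacter_indFun _ (isCharacter_irr _)))
      (Inner.gen_of_isCharacter (Induced.Character.isCharacter_indFun _ (isCharacter_irr _)))
  obtain ⟨a, ha⟩ : ∃ a : ℤ, Cfsg.classInner F (α 0) = a := by
    obtain ⟨i, hi⟩ := Inner.classInner_gen_int (DadeGen.gen_dade hDM hαgen hαsupp) hψgen
    rw [Avg.classInner_dade hDM subset_rfl (Inner.gen_classFun hαgen) hαsupp hψcl, ← hFdef] at hi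
    exact ⟨i, by rw [← classInner_conj_symm, hi, map_intCast]⟩
  have hka : ∀ i, ∑ n : K, F (n : M) * conj (β i n) = (Nat.card K : ℂ) * a := by
    intro i
    have h0 : Cfsg.classInner F (α i) = Cfsg.classInner (fun n : K => F n) (β i) :=
      frobenius_reciprocity' K (β i) hFcl
    rw [hαeq i, ha, Cfsg.classInner] at h0
    rw [h0, ← mul_assoc, mul_inv_cancel₀ (Nat.cast_ne_zero.2 Nat.card_pos.ne'), one_mul]
  -- the congruence
  set R : K → Subgroup G := fun n => Cfsg.supportR M ((n : M) : G) with hR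
  set D : ℕ := ∏ n ∈ (Finset.univ : Finset K).erase 1, Nat.card (R n) with hD'
  have hnA : ∀ n : K, n ≠ 1 → ((n : M) : G) ∈ Cfsg.typeA1 M := fun n hn =>
    (Avg.mem_typeA1 C.typeI_M).2 ⟨Avg.mem_fittingHall.1 n.2,
      fun h => hn (Subtype.ext (Subtype.ext h))⟩
  have hRD : ∀ n : K, n ≠ 1 → Nat.card (R n) ∣ D := fun n hn =>
    Finset.dvd_prod_of_mem _ (Finset.mem_erase.2 ⟨hn, Finset.mem_univ n⟩)
  have hpD : ¬ p ∣ D := by
    intro h
    obtain ⟨n, hn, hdvd⟩ := (Prime.dvd_finset_prod_iff C.prime.prime _).1 h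
    have hcop := hDM.coprime _ (hA1 (hnA n (Finset.ne_of_mem_erase hn))) _ hxA
    refine C.prime.one_lt.ne' (Nat.eq_one_of_dvd_coprimes hcop hdvd ?_)
    rw [← C.order_x, show orderOf x = orderOf (⟨x, C.x_mem_M,
      Subgroup.mem_centralizer_singleton_iff.2 rfl⟩ : ↥(M ⊓ Subgroup.centralizer ({x} : Set G)))
      from (Subgroup.orderOf_mk _ _).symm]
    exact orderOf_dvd_natCard _
  set S : K → ℂ := fun n => ∑ u ∈ Finset.univ.filter (fun u => u ∈ R n), ψ (((n : M) : G) * u)
    with hSdef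
  have hFS : ∀ n : K, n ≠ 1 → F (n : M) = (Nat.card (R n) : ℂ)⁻¹ * S n := by
    intro n hn
    rw [hFdef, Avg.avg_eq_of_mem ψ (hA1 (hnA n hn)), finsum_mem_eq_toFinset_sum]
    congr 1
    exact Finset.sum_congr (by ext; simp [hR]) fun _ _ => rfl
  set T : K → ℂ := fun n => ((D / Nat.card (R n) : ℕ) : ℂ) * S n * conj (β 0 n) with hT
  have hTsum : ∑ n : K, T n = (D : ℂ) * ((Nat.card K : ℂ) * a) := by
    rw [← hka 0, Finset.mul_sum]
    refine Finset.sum_congr rfl fun n _ => ?_
    rcases eq_or_ne n 1 with rfl | hn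
    · simp [hT, hβ, hηone]
    · simp only [hT]
      rw [hFS n hn, Nat.cast_div (hRD n hn) (Nat.cast_ne_zero.2 Nat.card_pos.ne')]
      ring
  set σ : Equiv.Perm K := (MulAut.conjNormal xM : MulAut K).toEquiv with hσ
  have hσcoe : ∀ n, σ n = cx n := fun n => rfl
  have hσpow : ∀ i : ℕ, ∀ n : K, (σ ^ i) n = (MulAut.conjNormal (xM ^ i) : MulAut K) n := by
    intro i
    induction i with
    | zero => intro n; simp
    | succ i ih =>
      intro n
      rw [pow_succ, Equiv.Perm.mul_apply, ih, pow_succ, map_mul, MulAut.mul_apply]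
      rfl
  have hσp : σ ^ p = 1 := Equiv.ext fun n => by rw [hσpow, hxMp]; simp
  have hRconj : ∀ n : K, n ≠ 1 → R (σ n) = (R n).map (MulAut.conj x).toMonoidHom := by
    intro n hn
    simp only [hR]
    rw [show (((σ n : K) : M) : G) = x * ((n : M) : G) * x⁻¹ from rfl,
      TI.map_H hDM (hA1 (hnA n hn)) C.x_mem_M]
  have hσ1 : ∀ n : K, n ≠ 1 → σ n ≠ 1 := fun n hn h => hn
    ((MulEquiv.map_eq_one_iff (MulAut.conjNormal xM : MulAut K)).1 h)
  have hTinv : ∀ n : K, T (σ n) = T n := by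
    intro n
    rcases eq_or_ne n 1 with rfl | hn
    · rw [show σ 1 = 1 from map_one (MulAut.conjNormal xM : MulAut K)]
    simp only [hT]
    have h1 : Nat.card (R (σ n)) = Nat.card (R n) := by
      simp only [hR]
      exact TI.card_H_conj hDM (hA1 (hnA n hn)) C.x_mem_M
    have h2 : S (σ n) = S n := by
      simp only [hSdef, hRconj n hn]
      symm
      refine Finset.sum_equiv (MulAut.conj x).toEquiv (fun u => ?_) (fun u _ => ?_)
      · simp only [Finset.mem_filter, Finset.mem_univ, true_and]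
        exact (Subgroup.mem_map_iff_mem (MulAut.conj x).injective).symm
      · rw [show (((σ n : K) : M) : G) = x * ((n : M) : G) * x⁻¹ from rfl]
        rw [show (MulAut.conj x).toEquiv u = x * u * x⁻¹ from rfl,
          show x * ((n : M) : G) * x⁻¹ * (x * u * x⁻¹) = x * (((n : M) : G) * u) * x⁻¹ by group,
          hψcl]
    have h3 : β 0 (σ n) = β 0 n := by
      simp only [hβ]
      rw [hσcoe, hηfix]
    rw [h1, h2, h3]
  have hηint : ∀ n, IsIntegral ℤ ((η 0 : K → ℂ) n) := fun n => isIntegral_apply (isCharacter_irr _) n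
  have hconjint : ∀ z : ℂ, IsIntegral ℤ z → IsIntegral ℤ (conj z) := fun z hz =>
    map_isIntegral_int (starRingEnd ℂ) hz
  have hβint : ∀ n, IsIntegral ℤ (conj (β 0 n)) := fun n =>
    hconjint _ (isIntegral_one.sub (hηint n))
  have hψint : ∀ g : G, IsIntegral ℤ (ψ g) := by
    obtain ⟨f₁, f₂, hf₁, hf₂, rfl⟩ := hψgen
    exact fun g => (isIntegral_apply hf₁ g).sub (isIntegral_apply hf₂ g)
  have hNint : ∀ m : ℕ, IsIntegral ℤ (m : ℂ) := fun m => by
    simpa using isIntegral_algebraMap (R := ℤ) (A := ℂ) (x := (m : ℤ))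
  have hTint : ∀ n, IsIntegral ℤ (T n) := fun n =>
    ((hNint _).mul (IsIntegral.sum _ fun u _ => hψint _)).mul (hβint n)
  set Cs := Finset.univ.filter (fun n : K => σ n = n) with hCs
  have hlocal : ∀ n ∈ Cs, Cong.Cong p (T n) ((D : ℂ) * (e : ℂ) * conj (β 0 n)) := by
    intro n hn
    rcases eq_or_ne n 1 with rfl | hn1
    · simp only [hT, hβ, hηone, sub_self, map_zero, mul_zero]
      exact Cong.refl _
    have hxn : x * ((n : M) : G) = ((n : M) : G) * x := by
      have h := congrArg (fun t : K => ((t : M) : G)) (Finset.mem_filter.1 hn).2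
      exact mul_inv_eq_iff_eq_mul.1 h
    have hA := hA1 (hnA n hn1)
    set π : Equiv.Perm G := (MulAut.conj x).toEquiv with hπ
    have hπpow : ∀ i : ℕ, ∀ g : G, (π ^ i) g = x ^ i * g * (x ^ i)⁻¹ := by
      intro i
      induction i with
      | zero => intro g; simp
      | succ i ih =>
        intro g
        rw [pow_succ, Equiv.Perm.mul_apply, ih, show π g = x * g * x⁻¹ from rfl, pow_succ]
        group
    have hπp : π ^ p = 1 := Equiv.ext fun g => by
      rw [hπpow, ← C.order_x, pow_orderOf_eq_one]; simp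
    set sR := Finset.univ.filter (fun u => u ∈ R n) with hsR
    have hs : ∀ u ∈ sR, π u ∈ sR := by
      intro u hu
      simp only [hsR, Finset.mem_filter, Finset.mem_univ, true_and] at hu ⊢
      exact hDM.conj_mem_H _ hA x (Subgroup.mem_centralizer_singleton_iff.2 hxn) u hu
    have hfix : sR.filter (fun u => π u = u) = {1} := by
      ext u
      simp only [hsR, Finset.mem_filter, Finset.mem_univ, true_and, Finset.mem_singleton]
      constructor
      · rintro ⟨hu, hfu⟩
        have hc : u ∈ Subgroup.centralizer ({x} : Set G) := Subgroup.mem_centralizer_singleton_iff.2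
          (mul_inv_eq_iff_eq_mul.1 hfu).symm
        have h : u ∈ R n ⊓ (M ⊓ Subgroup.centralizer ({((n : M) : G)} : Set G)) :=
          ⟨hu, C.cent_le hc, hDM.le_centralizer _ hA hu⟩
        rw [hDM.inf_eq_bot _ hA] at h
        exact Subgroup.mem_bot.1 h
      · rintro rfl
        exact ⟨one_mem _, by simp [hπ]⟩
    have h1 : Cong.Cong p (S n) (e : ℂ) := by
      have h := Cong.sum_fixed C.prime π hπp sR hs (f := fun u => ψ (((n : M) : G) * u))
        (fun u _ => by
          rw [show π u = x * u * x⁻¹ from rfl]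
          have e1 : ((n : M) : G) * (x * u * x⁻¹) = x * (((n : M) : G) * u) * x⁻¹ := by
            rw [← mul_assoc, ← mul_assoc, ← hxn]; group
          rw [e1, hψcl])
        (fun u _ => hψint _)
      rw [hfix, Finset.sum_singleton, mul_one] at h
      exact Cong.trans h (hψy (n : M) n.2 hxn)
    have h2 : Cong.Cong p (Nat.card (R n) : ℂ) 1 := by
      have h := Cong.sum_fixed C.prime π hπp sR hs (f := fun _ => (1 : ℂ))
        (fun _ _ => rfl) (fun _ _ => isIntegral_one)
      rw [hfix] at h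
      simpa [hsR, Nat.card_eq_fintype_card, Fintype.card_subtype] using h
    simp only [hT]
    refine Cong.mul_right (hβint n) (Cong.trans (Cong.mul_left (hNint _) h1) ?_)
    refine Cong.mul_right (hNint e) ?_
    have h3 := Cong.mul_left (hNint (D / Nat.card (R n))) (Cong.symm h2)
    rwa [mul_one, ← Nat.cast_mul, Nat.div_mul_cancel (hRD n hn1)] at h3
  have hmemCs : ∀ n : K, n ∈ Cs ↔ cx n = n := fun n => by simp [hCs, hσcoe]
  have hcount : ∑ n ∈ Cs, conj (β 0 n) = (Cs.card : ℂ) := by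
    obtain ⟨d, hd1, hd2⟩ := hηc 0
    have h0 : ∑ n ∈ Cs, conj ((η 0 : K → ℂ) n) = 0 := by
      refine hom_sum_eq_zero Cs (fun n => conj ((η 0 : K → ℂ) n)) (c := d) (fun n => ?_)
        (fun n => by rw [hηmul, map_mul]) (fun h => hd2 ?_)
      · rw [hmemCs, hmemCs, map_mul, hd1]
        exact ⟨fun h => by rw [h], fun h => mul_left_cancel h⟩
      · rw [← Complex.conj_conj ((η 0 : K → ℂ) d), h, map_one]
    simp only [hβ, map_sub, map_one, Finset.sum_sub_distrib, h0, sub_zero, Finset.sum_const,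
      nsmul_eq_mul, mul_one]
  have hkC : Cong.Cong p (Nat.card K : ℂ) (Cs.card : ℂ) := by
    have h := Cong.sum_fixed C.prime σ hσp Finset.univ (fun _ _ => Finset.mem_univ _)
      (f := fun _ : K => (1 : ℂ)) (fun _ _ => rfl) (fun _ _ => isIntegral_one)
    convert h using 1
    · simp [Nat.card_eq_fintype_card]
    · rw [Finset.sum_const, nsmul_eq_mul, mul_one]
      congr 2
      ext a; simp [hCs]
  have hcongr : Cong.Cong p (((D * Nat.card K : ℕ) : ℤ) * a : ℤ) (((D * Nat.card K : ℕ) : ℤ) * e : ℤ) := by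
    have h1 := Cong.sum_fixed C.prime σ hσp Finset.univ (fun _ _ => Finset.mem_univ _)
      (f := T) (fun n _ => hTinv n) (fun n _ => hTint n)
    have h1' : Cong.Cong p (∑ n : K, T n) (∑ n ∈ Cs, T n) := by
      convert h1 using 2
      ext a; simp [hCs]
    have h2 := Cong.trans h1' (Cong.sum Cs hlocal)
    rw [hTsum, ← Finset.mul_sum, hcount] at h2
    have h3 := Cong.trans h2 (Cong.mul_left ((hNint D).mul (hNint e)) (Cong.symm hkC))
    push_cast
    convert h3 using 1 <;> ring
  have hpa : (p : ℤ) ∣ a - e := by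
    have h := Cong.dvd_sub C.prime hcongr
    rw [← mul_sub] at h
    refine ((Nat.prime_iff_prime_int.1 C.prime).dvd_mul.1 h).resolve_left fun h' => ?_
    rcases C.prime.dvd_mul.1 (Int.natCast_dvd_natCast.1 h') with h'' | h''
    · exact hpD h''
    · exact C.not_dvd (hKcard ▸ h'')
  -- the norms
  set f : K → ℂ := fun n => ∑ i ∈ Finset.range p, β i n with hf
  have hFf : ∑ n : K, F (n : M) * conj (f n) = (p : ℂ) * ((Nat.card K : ℂ) * a) := by
    simp only [hf, map_sum, Finset.mul_sum]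
    rw [Finset.sum_comm, Finset.sum_congr rfl fun i _ => hka i, Finset.sum_const, Finset.card_range,
      nsmul_eq_mul]
  have hff : ∑ n : K, ‖f n‖ ^ 2 = (Nat.card K : ℝ) * ((p : ℝ) ^ 2 + p) := by
    have hi : ∀ i ∈ Finset.range p, ∀ j ∈ Finset.range p, ∑ n : K, β i n * conj (β j n) =
        (Nat.card K : ℂ) * (1 + if i = j then 1 else 0) := by
      intro i hi j hj
      have hne : ∀ k, η k ≠ oneChar K := fun k h => by
        obtain ⟨d, -, hd2⟩ := hηc k
        exact hd2 (by rw [h]; exact oneChar_apply d)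
      have hk0 : (Nat.card K : ℂ) ≠ 0 := Nat.cast_ne_zero.2 Nat.card_pos.ne'
      have e0 : ∀ φ : K → ℂ, ∀ χ' : K → ℂ,
          ∑ n : K, φ n * conj (χ' n) = (Nat.card K : ℂ) * Cfsg.classInner φ χ' := fun φ χ' => by
        rw [Cfsg.classInner, ← mul_assoc, mul_inv_cancel₀ hk0, one_mul]
      rw [show β i = (oneChar K : K → ℂ) - (η i : K → ℂ) from funext fun n => by
          simp [hβ, oneChar_apply],
        show β j = (oneChar K : K → ℂ) - (η j : K → ℂ) from funext fun n => by
          simp [hβ, oneChar_apply], e0, classInner_sub_left, classInner_sub_right,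
        classInner_sub_right, classInner_self_irr, classInner_irr_of_ne (hne j).symm,
        classInner_irr_of_ne (hne i), classInner_irr]
      simp only [hηinj.eq_iff hi hj]
      ring
    apply Complex.ofReal_injective
    push_cast
    simp only [← Complex.mul_conj']
    rw [Finset.sum_congr rfl fun n _ => show f n * conj (f n) =
      ∑ i ∈ Finset.range p, ∑ j ∈ Finset.range p, β i n * conj (β j n) by
        simp only [hf, map_sum, Finset.sum_mul_sum],
      Finset.sum_comm, Finset.sum_congr rfl fun i hi' => by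
        rw [Finset.sum_comm, Finset.sum_congr rfl (hi i hi'), ← Finset.mul_sum,
          Finset.sum_add_distrib, Finset.sum_const, Finset.card_range, Finset.sum_ite_eq, if_pos hi'],
      Finset.sum_const, Finset.card_range]
    simp only [nsmul_eq_mul, mul_one]
    ring
  have hf1 : f 1 = 0 := by simp [hf, hβ, hηone]
  set sK := (Finset.univ : Finset K).erase 1 with hsK
  have hlow : (Nat.card K : ℝ) * (a : ℝ) ^ 2 * p ≤
      (∑ n ∈ sK, ‖F (n : M)‖ ^ 2) * ((p : ℝ) + 1) := by
    have h1 : ‖∑ n : K, F (n : M) * conj (f n)‖ ≤ ∑ n ∈ sK, ‖F (n : M)‖ * ‖f n‖ := by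
      rw [← Finset.sum_erase (a := (1 : K)) Finset.univ
        (show F ((1 : K) : M) * conj (f 1) = 0 by rw [hf1, map_zero, mul_zero])]
      refine (norm_sum_le _ _).trans (le_of_eq (Finset.sum_congr rfl fun n _ => ?_))
      rw [norm_mul, Complex.norm_conj]
    have h2 : (∑ n ∈ sK, ‖F (n : M)‖ * ‖f n‖) ^ 2 ≤
        (∑ n ∈ sK, ‖F (n : M)‖ ^ 2) * ∑ n ∈ sK, ‖f n‖ ^ 2 :=
      Finset.sum_mul_sq_le_sq_mul_sq _ _ _
    have h3 : ∑ n ∈ sK, ‖f n‖ ^ 2 = (Nat.card K : ℝ) * ((p : ℝ) ^ 2 + p) := by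
      rw [← hff]
      exact Finset.sum_erase _ (by rw [hf1]; simp)
    have h4 := (pow_le_pow_left₀ (norm_nonneg _) h1 2).trans h2
    rw [hFf, h3, norm_mul, norm_mul, Complex.norm_natCast, Complex.norm_natCast,
      Complex.norm_intCast, mul_pow, mul_pow, sq_abs] at h4
    have hpk : (0 : ℝ) < (p : ℝ) * Nat.card K :=
      mul_pos (by exact_mod_cast C.prime.pos) (by exact_mod_cast Nat.card_pos)
    nlinarith
  -- the two inequalities
  have h25L := Cfsg.Agent.S1525.result (Cfsg.Agent.Lib.OddOrder.TypeOne.typeA L) L (Cfsg.supportR L) hDL ψ hψcl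
    (Avg.avg L ψ) fun a ha => Avg.avg_eq_of_mem ψ ha
  have h25M := Cfsg.Agent.S1525.result (Cfsg.typeA1 M) M (Cfsg.supportR M) hD1 ψ hψcl
    F fun a ha => Avg.avg_eq_of_mem ψ (hA1 ha)
  have hLsum : ∑ᶠ a ∈ {a : L | (a : G) ∈ Cfsg.Agent.Lib.OddOrder.TypeOne.typeA L}, ‖Avg.avg L ψ a‖ ^ 2 =
      (Nat.card L : ℝ) - (e : ℝ) * e := by
    set s := Finset.univ.filter (fun a : L => a ∈ Cfsg.fittingHall L ∧ a ≠ 1) with hs
    have hset : {a : L | (a : G) ∈ Cfsg.Agent.Lib.OddOrder.TypeOne.typeA L} = (s : Set L) := by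
      ext a
      have := Coherent.not_mem_typeA (x := a) C.typeI_L C.frob
      simp only [Set.mem_setOf_eq, hs, Finset.coe_filter, Finset.mem_univ, true_and]
      tauto
    rw [hset, finsum_mem_coe_finset, Finset.sum_congr rfl fun a ha => by
      rw [hd.avg_eq a (Finset.mem_filter.1 ha).2.1 (Finset.mem_filter.1 ha).2.2]]
    apply Complex.ofReal_injective
    push_cast
    simp only [← Complex.mul_conj']
    have := hd.norm_sum
    rw [hd.degree] at this
    convert this
  have hMsum : ∑ᶠ m ∈ {m : M | (m : G) ∈ Cfsg.typeA1 M}, ‖F m‖ ^ 2 =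
      ∑ n ∈ sK, ‖F (n : M)‖ ^ 2 := by
    have hset : {m : M | (m : G) ∈ Cfsg.typeA1 M} =
        ((sK.map ⟨((↑) : K → M), Subtype.val_injective⟩ : Finset M) : Set M) := by
      ext m
      simp only [Set.mem_setOf_eq, Finset.coe_map, Set.mem_image, Finset.mem_coe, hsK,
        Finset.mem_erase, Finset.mem_univ, and_true, Function.Embedding.coeFn_mk]
      constructor
      · intro h
        obtain ⟨h1, h2⟩ := (Avg.mem_typeA1 C.typeI_M).1 h
        exact ⟨⟨m, Avg.mem_fittingHall.2 h1⟩,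
          fun e => h2 (congrArg (fun t : K => ((t : M) : G)) e), rfl⟩
      · rintro ⟨n, hn, rfl⟩
        exact hnA n hn
    rw [hset, finsum_mem_coe_finset, Finset.sum_map]
    rfl
  have hsum : (Nat.card L : ℝ)⁻¹ * ((Nat.card L : ℝ) - (e : ℝ) * e) +
      (Nat.card M : ℝ)⁻¹ * ∑ n ∈ sK, ‖F (n : M)‖ ^ 2 ≤ 1 := by
    rw [hLsum] at h25L
    rw [hMsum] at h25M
    refine (add_le_add h25L h25M).trans ?_
    rw [← mul_add, inv_mul_le_one₀ (by exact_mod_cast Nat.card_pos), finsum_mem_eq_toFinset_sum,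
      finsum_mem_eq_toFinset_sum, ← Finset.sum_union ?_]
    · have htot : ∑ g : G, ‖ψ g‖ ^ 2 = (Nat.card G : ℝ) := by
        have h := hψn
        rw [Cfsg.classInner, inv_mul_eq_one₀ (Nat.cast_ne_zero.2 Nat.card_pos.ne')] at h
        simp only [Complex.mul_conj'] at h
        exact_mod_cast h.symm
      rw [← htot]
      exact Finset.sum_le_sum_of_subset_of_nonneg (Finset.subset_univ _) fun _ _ _ => sq_nonneg _
    · rw [Finset.disjoint_left]
      intro g h1 h2
      simp only [Set.mem_toFinset] at h1 h2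
      have h1' : g ∈ Cfsg.tildeOf L (Cfsg.Agent.Lib.OddOrder.TypeOne.typeA L) := by rw [← Avg.support_eq]; exact h1
      have h2' : g ∈ Cfsg.tildeOf M (Cfsg.typeA1 M) := by rw [← Avg.support_eq]; exact h2
      exact Set.eq_empty_iff_forall_notMem.1 hdisj g ⟨h2', h1'⟩
  have hLcard : (Nat.card L : ℝ) = (Nat.card (Cfsg.fittingHall L) : ℝ) * e := by
    rw [hedef, ← Nat.cast_mul, Subgroup.card_mul_index]
  have hMcard : (Nat.card M : ℝ) = (Nat.card K : ℝ) * K.index := by
    rw [← Nat.cast_mul, Subgroup.card_mul_index]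
  set h := Nat.card (Cfsg.fittingHall L) with hhdef
  have hh : (0 : ℝ) < h := by exact_mod_cast Nat.card_pos
  have he : (0 : ℝ) < e := by
    exact_mod_cast Nat.pos_of_ne_zero Subgroup.index_ne_zero_of_finite
  have hk : (0 : ℝ) < Nat.card K := by exact_mod_cast Nat.card_pos
  have hw : (0 : ℝ) < K.index := by
    exact_mod_cast Nat.pos_of_ne_zero Subgroup.index_ne_zero_of_finite
  have hwle : (K.index : ℝ) ≤ h := by exact_mod_cast C.index_le
  have harith : ((e : ℝ)) * ((p : ℝ) + 1) < (a : ℝ) ^ 2 * p := by exact_mod_cast C.arith a hpa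
  rw [hLcard, hMcard] at hsum
  field_simp at hsum
  nlinarith [mul_pos (mul_pos hh he) hk, mul_le_mul_of_nonneg_left hwle (mul_nonneg he.le (by positivity : (0:ℝ) ≤ (p : ℝ) + 1)),
    mul_lt_mul_of_pos_left harith hh, mul_le_mul_of_nonneg_left hlow hh.le]

end Cfsg.Agent.Lib.OddOrder.PF12.Contra
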