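import Cfsg.Agent.Lib.OddOrder.TypeOne
import Cfsg.Agent.Lib.OddOrder.PF12.Group
import Cfsg.Agent.Lib.OddOrder.PF12.Coherent
import Cfsg.Agent.Lib.OddOrder.PF12.Avg
import Cfsg.Agent.Lib.OddOrder.PF8.Dade
import Cfsg.Agent.Lib.OddOrder.SigmaHall
import Cfsg.Agent.Lib.Coprime.Generation

/-!
# Lemmas for the local part of Peterfalvi (12.8)-(12.11)

Owner: helper8.
-/

set_option autoImplicit false

namespace Cfsg.Agent.Lib.OddOrder.PF12.Local

open scoped Classical commutatorElement IsMulCommutative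
open Cfsg.Agent.Lib.OddOrder.Interface

universe u

variable {G : Type u} [Group G] [Finite G]

/-- A witness that the type I subgroup `M` is not Frobenius. -/
structure Witness (p : ℕ) (M A : Subgroup G) : Prop where
  prime : p.Prime
  coatom : IsCoatom M
  typeI : Cfsg.Agent.Lib.OddOrder.TypeOne.IsTypeI M
  le : A ≤ M
  comm : IsMulCommutative A
  pow : ∀ a ∈ A, a ^ p = 1
  card : Nat.card A = p ^ 2
  not_dvd : ¬ p ∣ Nat.card (Cfsg.fittingHallOf M)

theorem Witness.isPGroup {p : ℕ} {M A : Subgroup G} (h : Witness p M A) : IsPGroup p A :=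
  IsPGroup.of_card h.card

theorem Witness.not_isCyclic {p : ℕ} {M A : Subgroup G} (h : Witness p M A) : ¬ IsCyclic A := by
  intro hc
  obtain ⟨g, hg⟩ := IsCyclic.exists_ofOrder_eq_natCard (α := A)
  have hd := Nat.le_of_dvd h.prime.pos (orderOf_dvd_of_pow_eq_one
    (show g ^ p = 1 from Subtype.ext (by rw [Subgroup.coe_pow]; exact h.pow g g.2)))
  rw [hg, h.card] at hd
  nlinarith [h.prime.one_lt]

/-- A type I subgroup that is not a Frobenius group has a witness. -/
theorem exists_witness {M : Subgroup G} (hM : IsCoatom M) (hI : Cfsg.Agent.Lib.OddOrder.TypeOne.IsTypeI M)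
    (hno : ¬ ∀ x ∈ Cfsg.fittingHallOf M, x ≠ 1 →
      M ⊓ Subgroup.centralizer ({x} : Set G) ≤ Cfsg.fittingHallOf M) :
    ∃ p A, Witness p M A := by
  haveI : Fintype M := Fintype.ofFinite _
  obtain ⟨-, hodd, hne, -, U, -, hc, -, U₀, hle, hexp, hfpf⟩ := hI.1
  obtain ⟨r, hr, hrd, P, hP⟩ : ∃ r : ℕ, r.Prime ∧ r ∣ Nat.card U ∧ ∃ P : Sylow r U, ¬ IsCyclic P := by
    by_contra! hall
    have hU : U₀ = U := Group.eq_of_exponent_eq hle hexp hall
    subst hU
    have hC := Cfsg.Agent.Lib.Isometry.KernelInduced.centralizer_le_of_fpf (Cfsg.fittingHall M) U₀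
      hc.sup_eq_top hfpf
    refine hno fun x hx hx1 m hm => ?_
    have hxM := Subgroup.map_subtype_le _ hx
    exact Avg.mem_fittingHall.1 (hC ⟨x, hxM⟩ (Avg.mem_fittingHall.2 hx)
      (fun e => hx1 (congrArg Subtype.val e)) (x := ⟨m, hm.1⟩)
      (Subgroup.mem_centralizer_singleton_iff.2
        (Subtype.ext (Subgroup.mem_centralizer_singleton_iff.1 hm.2))))
  haveI := Fact.mk hr
  have hr2 : r ≠ 2 := fun h2 => Nat.not_even_iff_odd.2 hodd
    (even_iff_two_dvd.2 (h2 ▸ hrd.trans (Subgroup.card_subgroup_dvd_card U)))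
  obtain ⟨E, -, hE, hEc⟩ := Frobenius.PGroupOdd.exists_normal_elemAb P.2 hr2 hP
  haveI := hE.1
  refine ⟨r, ((E.map (P : Subgroup U).subtype).map U.subtype).map M.subtype, hr, hM, hI,
    Subgroup.map_subtype_le _, inferInstance, ?_, ?_, ?_⟩
  · rintro _ ⟨_, ⟨_, ⟨a, ha, rfl⟩, rfl⟩, rfl⟩
    rw [← map_pow, ← map_pow, ← map_pow, hE.2 a ha, map_one, map_one, map_one]
  · rw [Subgroup.card_map_of_injective M.subtype_injective,
      Subgroup.card_map_of_injective U.subtype_injective,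
      Subgroup.card_map_of_injective (P : Subgroup U).subtype_injective, hEc]
  · intro h
    have h1 := (Basic.fittingHall_spec M).2
    rw [hc.symm.index_eq_card] at h1
    rw [Cfsg.fittingHallOf, Subgroup.card_map_of_injective M.subtype_injective] at h
    exact hr.one_lt.ne' (Nat.eq_one_of_dvd_coprimes h1 h hrd)

/-- A fixed-point-free part of any complement of `K`. -/
theorem exists_fpf {M W : Subgroup G} (hI : Cfsg.Agent.Lib.OddOrder.TypeOne.IsTypeI M)
    (hW : Cfsg.IsComplIn (Cfsg.fittingHallOf M) W M) :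
    ∃ W₀ : Subgroup G, W₀ ≤ W ∧
      Group.IsFixFree W₀ (Cfsg.fittingHallOf M) ∧
      ∀ r : ℕ, r.Prime → r ∣ Nat.card W → ∃ z ∈ W₀, orderOf z = r := by
  obtain ⟨-, -, -, -, U, -, hc, -, U₀, hle, hexp, hfpf⟩ := hI.1
  set K := Cfsg.fittingHallOf M with hK
  have hn : M ≤ Subgroup.normalizer (K : Set G) := Basic.fittingHallOf_normal M
  set X := U₀.map M.subtype with hX
  have hXM : X ≤ M := Subgroup.map_subtype_le _
  have hfix : ∀ u ∈ X, u ≠ 1 → ∀ k ∈ K, u * k = k * u → k = 1 := by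
    rintro _ ⟨u, hu, rfl⟩ hu1 k hk hcm
    have hkM := Subgroup.map_subtype_le _ hk
    exact congrArg Subtype.val (hfpf u hu (fun e => hu1 (by rw [e, map_one])) ⟨k, hkM⟩
      (Avg.mem_fittingHall.2 hk) (Subtype.ext hcm))
  have hsup : ∀ w ∈ K ⊔ X, ∃ k ∈ K, ∃ u ∈ X, w = k * u := by
    intro w hw
    have : w ∈ ((K ⊔ X : Subgroup G) : Set G) := hw
    rw [Subgroup.coe_mul_of_right_le_normalizer_left _ _ (hXM.trans hn)] at this
    obtain ⟨k, hk, u, hu, rfl⟩ := this
    exact ⟨k, hk, u, hu, rfl⟩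
  refine ⟨W ⊓ (K ⊔ X), inf_le_left, ⟨(inf_le_left.trans hW.2.1).trans hn, ?_⟩, ?_⟩
  · intro w hw hw1 h hh hcm
    obtain ⟨k, hk, u, hu, rfl⟩ := hsup w hw.2
    have hu1 : u ≠ 1 := by
      rintro rfl
      rw [mul_one] at hw hw1
      exact hw1 (Subgroup.mem_bot.1 (hW.2.2.1.le ⟨hk, hw.1⟩))
    exact Group.coset_fixed (hn (hXM hu)) (fun h' hh' => hfix u hu hu1 h' hh') hk hh hcm
  · intro r hr hrd
    haveI := Fact.mk hr
    have hcard : Nat.card U = Nat.card W := by
      have h1 := Basic.isComplIn_card hW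
      rw [← hc.card_mul_card] at h1
      rw [hK, Cfsg.fittingHallOf, Subgroup.card_map_of_injective M.subtype_injective] at h1
      exact (Nat.eq_of_mul_eq_mul_left Nat.card_pos h1).symm
    obtain ⟨v, hv⟩ := exists_prime_orderOf_dvd_card' (G := U) r (hcard ▸ hrd)
    have hd : r ∣ Monoid.exponent U₀ := hexp ▸ hv ▸ Monoid.order_dvd_exponent v
    obtain ⟨u, hu⟩ := exists_prime_orderOf_dvd_card' (G := U₀) r
      (hd.trans _root_.Group.exponent_dvd_nat_card)
    set u' : G := ((u : M) : G) with hu'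
    have hu'X : u' ∈ X := ⟨(u : M), u.2, rfl⟩
    have hord : orderOf u' = r := by rw [hu', Subgroup.orderOf_coe, Subgroup.orderOf_coe, hu]
    obtain ⟨k, hk, w, hw, huw⟩ := hW.2.2.2 u' (hXM hu'X)
    refine ⟨w, ⟨hw, ?_⟩, ?_⟩
    · rw [show w = k⁻¹ * u' by rw [huw, inv_mul_cancel_left]]
      exact mul_mem (Subgroup.mem_sup_left (inv_mem hk)) (Subgroup.mem_sup_right hu'X)
    · haveI : (K.subgroupOf M).Normal :=
        Subgroup.normal_subgroupOf_iff_le_normalizer hW.1 |>.2 hn
      have h1 : ((⟨u', hXM hu'X⟩ : M) : M ⧸ K.subgroupOf M) = ((⟨w, hW.2.1 hw⟩ : M) : M ⧸ K.subgroupOf M) := by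
        rw [show (⟨u', hXM hu'X⟩ : M) = ⟨k, hW.1 hk⟩ * ⟨w, hW.2.1 hw⟩ from Subtype.ext huw,
          QuotientGroup.mk_mul, (QuotientGroup.eq_one_iff _).2 (Subgroup.mem_subgroupOf.2 hk), one_mul]
      have h2 : w ^ r ∈ K := by
        have h3 := congrArg (· ^ r) h1
        simp only [← QuotientGroup.mk_pow] at h3
        rw [show (⟨u', hXM hu'X⟩ : M) ^ r = 1 from Subtype.ext (by
          simp [← hord, pow_orderOf_eq_one]), QuotientGroup.mk_one] at h3
        simpa [Subgroup.mem_subgroupOf] using (QuotientGroup.eq_one_iff _).1 h3.symm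
      refine orderOf_eq_prime (Subgroup.mem_bot.1 (hW.2.2.1.le ⟨h2, pow_mem hw r⟩)) ?_
      intro hw1
      rw [hw1, mul_one] at huw
      have h4 : u' ∈ K := huw ▸ hk
      have h5 : (u : M) ∈ Cfsg.fittingHall M ⊓ U := ⟨Avg.mem_fittingHall.2 h4, hle u.2⟩
      rw [hc.disjoint.eq_bot, Subgroup.mem_bot] at h5
      exact hr.one_lt.ne (by rw [← hord, hu', h5]; simp)

omit [Finite G] in
/-- A group meeting `H` trivially inside `H U`, `U` cyclic, is cyclic. -/
theorem isCyclic_of_compl {H U X A : Subgroup G} (h : Cfsg.IsComplIn H U X)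
    (hn : X ≤ Subgroup.normalizer (H : Set G)) [IsCyclic U] (hA : A ≤ X) (hAH : A ⊓ H = ⊥) :
    IsCyclic A := by
  choose f hf g hg heq using fun a : A => h.2.2.2 (a : G) (hA a.2)
  have huniq : ∀ {a b c d : G}, a ∈ H → b ∈ U → c ∈ H → d ∈ U → a * b = c * d → b = d := by
    intro a b c d ha hb hc hd e
    have e' : c⁻¹ * a = d * b⁻¹ := by
      rw [eq_mul_inv_iff_mul_eq, mul_assoc, e, inv_mul_cancel_left]
    have hm : c⁻¹ * a ∈ H ⊓ U :=
      ⟨H.mul_mem (H.inv_mem hc) ha, e' ▸ U.mul_mem hd (U.inv_mem hb)⟩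
    rw [h.2.2.1, Subgroup.mem_bot, e', mul_inv_eq_one] at hm
    exact hm.symm
  let φ : A →* U :=
    { toFun := fun a => ⟨g a, hg a⟩
      map_one' := Subtype.ext (huniq (hf 1) (hg 1) H.one_mem U.one_mem (by
        rw [← heq 1]; simp))
      map_mul' := fun a b => Subtype.ext (huniq (a := f (a * b))
        (c := f a * (g a * f b * (g a)⁻¹)) (hf _) (hg _)
        (H.mul_mem (hf a) ((Subgroup.mem_normalizer_iff.1 (hn (h.2.1 (hg a))) _).1 (hf b)))
        (U.mul_mem (hg a) (hg b)) (by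
          rw [← heq (a * b), Subgroup.coe_mul]
          conv_lhs => rw [heq a, heq b]
          simp only [Subgroup.coe_mul]
          group)) }
  refine isCyclic_of_injective φ ((injective_iff_map_eq_one φ).2 fun a ha => ?_)
  have h1 : g a = 1 := congrArg Subtype.val ha
  have h2 : (a : G) ∈ H := by rw [heq a, h1, mul_one]; exact hf a
  exact Subtype.ext (Subgroup.mem_bot.1 (hAH.le ⟨a.2, h2⟩))

omit [Finite G] in
/-- A conjugate back into a TI subgroup forces the centraliser into the normaliser. -/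
theorem cent_le_normalizer_of_TI {F : Subgroup G} (hTI : Cfsg.IsTISubset (F : Set G)) {x : G}
    (hx : x ∈ F) (hx1 : x ≠ 1) :
    Subgroup.centralizer ({x} : Set G) ≤ Subgroup.normalizer (F : Set G) := by
  intro c hc
  by_contra hcN
  refine hx1 (hTI c hcN x hx ?_)
  rwa [Subgroup.mem_centralizer_singleton_iff.1 hc, mul_inv_cancel_right]

omit [Finite G] in
/-- `C(x)` is normalised by what fixes `⟨x⟩`. -/
theorem centralizer_conj {x g : G} {p : ℕ} (hp : p.Prime) (hx : orderOf x = p)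
    (hg : g * x * g⁻¹ ∈ Subgroup.zpowers x) :
    ∀ c ∈ Subgroup.centralizer ({x} : Set G), g⁻¹ * c * g ∈ Subgroup.centralizer ({x} : Set G) := by
  intro c hc
  have hxp : x ^ p = 1 := by rw [← hx]; exact pow_orderOf_eq_one x
  obtain ⟨i, hi⟩ := Subgroup.mem_zpowers_iff.1 hg
  have hcx : Commute c x := Subgroup.mem_centralizer_singleton_iff.1 hc
  have h1 : Commute c (g * x * g⁻¹) := hi ▸ hcx.zpow_right i
  refine Subgroup.mem_centralizer_singleton_iff.2 ?_
  calc g⁻¹ * c * g * x = g⁻¹ * (c * (g * x * g⁻¹)) * g := by group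
    _ = g⁻¹ * ((g * x * g⁻¹) * c) * g := by rw [h1.eq]
    _ = x * (g⁻¹ * c * g) := by group

/-- An automorphism of odd prime order `q > p` fixes an elementary abelian group of order `p ^ 2`. -/
theorem commute_of_big_prime {A : Subgroup G} {p q : ℕ} (hp : p.Prime) (hq : q.Prime)
    (hp2 : p ≠ 2) (hpq : p < q) (hA : Nat.card A = p ^ 2) {b : G} (hb : b ^ q = 1)
    (hn : ∀ a ∈ A, b * a * b⁻¹ ∈ A) : ∀ a ∈ A, b * a = a * b := by
  haveI := Fact.mk hq
  haveI : Fintype G := Fintype.ofFinite G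
  let f : Function.End A := fun a => ⟨b * a * b⁻¹, hn a a.2⟩
  have hpow : ∀ (i : ℕ) (a : A), ((f ^ i) a : G) = b ^ i * a * (b ^ i)⁻¹ := by
    intro i
    induction i with
    | zero =>
      intro a
      show (a : G) = _
      simp
    | succ i ih =>
      intro a
      rw [pow_succ' f, pow_succ' b]
      show b * ((f ^ i) a : G) * b⁻¹ = _
      rw [ih]; group
  have hf : f ^ q ^ 1 = 1 := funext fun a => Subtype.ext (by
    rw [pow_one, hpow, hb]
    show (1 : G) * a * 1⁻¹ = (a : G)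
    simp)
  have hmod := Equiv.Perm.card_fixedPoints_modEq hf
  set C := A ⊓ Subgroup.centralizer ({b} : Set G) with hC
  have hfix : Fintype.card (Function.fixedPoints f) = Nat.card C := by
    rw [← Nat.card_eq_fintype_card]
    refine Nat.card_congr ⟨fun a => ⟨(a.1 : G), a.1.2, ?_⟩, fun a => ⟨⟨a.1, a.2.1⟩, ?_⟩,
      fun a => rfl, fun a => rfl⟩
    · have e : b * (a.1 : G) * b⁻¹ = a.1 := congrArg Subtype.val a.2
      exact Subgroup.mem_centralizer_singleton_iff.2 (mul_inv_eq_iff_eq_mul.1 e).symm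
    · refine Subtype.ext (mul_inv_eq_iff_eq_mul.2 ?_)
      exact (Subgroup.mem_centralizer_singleton_iff.1 a.2.2).symm
  rw [hfix, ← Nat.card_eq_fintype_card, hA] at hmod
  have hCd : Nat.card C ∣ p ^ 2 := hA ▸ Subgroup.card_dvd_of_le inf_le_left
  obtain ⟨j, hj, hjc⟩ := (Nat.dvd_prime_pow hp).1 hCd
  interval_cases j
  · -- `q ∣ p ^ 2 - 1`
    exfalso
    rw [hjc, pow_zero] at hmod
    have h1 := (Nat.modEq_iff_dvd' (Nat.one_le_pow _ _ hp.pos)).1 hmod.symm
    rw [show p ^ 2 - 1 = (p + 1) * (p - 1) by simpa using Nat.sq_sub_sq p 1] at h1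
    rcases hq.dvd_mul.1 h1 with h | h
    · rcases (Nat.lt_or_ge q (p + 1)) with h' | h'
      · omega
      · have h2 : q = p + 1 := le_antisymm (Nat.le_of_dvd (by omega) h) h'
        have := hp.eq_two_or_odd.resolve_left hp2
        exact absurd (hq.eq_two_or_odd.resolve_left (by have := hp.two_le; omega)) (by omega)
    · have := Nat.le_of_dvd (by have := hp.two_le; omega) h; omega
  · exfalso
    rw [hjc, pow_one] at hmod
    have h1 := (Nat.modEq_iff_dvd' (Nat.le_self_pow (by norm_num) _)).1 hmod.symm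
    rw [show p ^ 2 - p = p * (p - 1) by rw [Nat.mul_sub, mul_one, pow_two]] at h1
    rcases hq.dvd_mul.1 h1 with h | h
    · have := Nat.le_of_dvd hp.pos h; omega
    · have := Nat.le_of_dvd (by have := hp.two_le; omega) h; omega
  · intro a ha
    have hCA : C = A := Subgroup.eq_of_le_of_card_ge inf_le_left (by rw [hjc, hA])
    exact (Subgroup.mem_centralizer_singleton_iff.1 (hCA.ge ha).2).symm

open scoped Classical in
/-- `L / H` acts semiregularly on `A#`: the index divides `|A| - 1`. -/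
theorem index_dvd {L A : Subgroup G} (H : Subgroup L) (hn : L ≤ Subgroup.normalizer (A : Set G))
    (hstab : ∀ a ∈ A, a ≠ 1 → ∀ g : L, (g : G) * a * (g : G)⁻¹ = a ↔ g ∈ H) :
    (H.index : ℤ) ∣ (Nat.card A : ℤ) - 1 := by
  haveI : Fintype L := Fintype.ofFinite L
  haveI : Fintype A := Fintype.ofFinite A
  letI : MulAction L A :=
    { smul := fun g a => ⟨(g : G) * a * (g : G)⁻¹, (Subgroup.mem_normalizer_iff.1 (hn g.2) _).1 a.2⟩
      one_smul := fun a => Subtype.ext (by
        show ((1 : L) : G) * a * ((1 : L) : G)⁻¹ = a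
        simp)
      mul_smul := fun g g' a => Subtype.ext (by
        show ((g * g' : L) : G) * a * ((g * g' : L) : G)⁻¹ =
          (g : G) * ((g' : G) * a * (g' : G)⁻¹) * (g : G)⁻¹
        simp [mul_assoc]) }
  have hst : ∀ a : A, a ≠ 1 → MulAction.stabilizer L a = H := by
    intro a ha
    ext g
    rw [MulAction.mem_stabilizer_iff, ← hstab (a : G) a.2 (fun e => ha (Subtype.ext e)) g]
    exact ⟨fun h => congrArg Subtype.val h, fun h => Subtype.ext h⟩
  let one : MulAction.orbitRel.Quotient L A := Quotient.mk'' 1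
  have hout : ∀ ω : MulAction.orbitRel.Quotient L A, ω.out = 1 ↔ ω = one := by
    intro ω
    constructor
    · intro h; rw [← Quotient.out_eq' ω, h]
    · rintro rfl
      have h : one.out ∈ MulAction.orbit L (1 : A) :=
        MulAction.orbitRel_apply.1 (Quotient.exact' (Quotient.out_eq' one))
      obtain ⟨g, hg⟩ := h
      rw [← hg]
      refine Subtype.ext ?_
      show (g : G) * ((1 : A) : G) * (g : G)⁻¹ = 1
      simp
  have key := Nat.card_congr (MulAction.selfEquivSigmaOrbitsQuotientStabilizer L A)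
  rw [Nat.card_sigma] at key
  have h1 : Nat.card (L ⧸ MulAction.stabilizer L one.out) = 1 := by
    rw [(hout one).2 rfl, ← Subgroup.index_eq_card, Subgroup.index_eq_one, eq_top_iff]
    intro g _
    refine Subtype.ext ?_
    show (g : G) * ((1 : A) : G) * (g : G)⁻¹ = 1
    simp
  rw [← Finset.add_sum_erase _ _ (Finset.mem_univ one), h1,
    Finset.sum_congr rfl (g := fun _ => H.index) fun ω hω => by
      rw [← Subgroup.index_eq_card,
        hst _ fun h => Finset.ne_of_mem_erase hω ((hout ω).1 h)],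
    Finset.sum_const, smul_eq_mul] at key
  rw [key]
  push_cast
  rw [add_sub_cancel_left]
  exact Dvd.intro_left _ rfl

/-- The translates of `⟨x⟩` give `e (p - 1) < |A|`. -/
theorem index_mul_lt {L A : Subgroup G} (H : Subgroup L) (hn : L ≤ Subgroup.normalizer (A : Set G))
    {x : G} (hx : x ∈ A) {p : ℕ} (hp : p.Prime) (hord : orderOf x = p)
    (hline : ∀ g : L, (g : G) * x * (g : G)⁻¹ ∈ Subgroup.zpowers x → g ∈ H) :
    H.index * (p - 1) < Nat.card A := by
  haveI : Fintype A := Fintype.ofFinite A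
  haveI : Fintype (L ⧸ H) := Fintype.ofFinite _
  let f : (L ⧸ H) × Fin (p - 1) → A := fun q =>
    ⟨((q.1.out : L) : G) * x ^ ((q.2 : ℕ) + 1) * ((q.1.out : L) : G)⁻¹,
      (Subgroup.mem_normalizer_iff.1 (hn q.1.out.2) _).1 (pow_mem hx _)⟩
  have hne : ∀ i : Fin (p - 1), ¬ p ∣ (i : ℕ) + 1 := fun i =>
    Nat.not_dvd_of_pos_of_lt (by omega) (by have := i.2; omega)
  have hinj : Function.Injective f := by
    rintro ⟨q, i⟩ ⟨q', j⟩ h
    have e : ((q.out : L) : G) * x ^ ((i : ℕ) + 1) * ((q.out : L) : G)⁻¹ =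
        ((q'.out : L) : G) * x ^ ((j : ℕ) + 1) * ((q'.out : L) : G)⁻¹ := congrArg Subtype.val h
    set g : L := q'.out⁻¹ * q.out with hg
    have e' : (g : G) * x ^ ((i : ℕ) + 1) * (g : G)⁻¹ = x ^ ((j : ℕ) + 1) := by
      calc (g : G) * x ^ ((i : ℕ) + 1) * (g : G)⁻¹
          = ((q'.out : L) : G)⁻¹ * (((q.out : L) : G) * x ^ ((i : ℕ) + 1) * ((q.out : L) : G)⁻¹) *
              ((q'.out : L) : G) := by simp [hg]; group
        _ = _ := by rw [e]; group
    obtain ⟨m, -, hm⟩ := Nat.exists_mul_mod_eq_one_of_coprime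
      (hp.coprime_iff_not_dvd.2 (hne i)).symm hp.one_lt
    have hxm : (x ^ ((i : ℕ) + 1)) ^ m = x := by
      rw [← pow_mul, ← pow_mod_orderOf, hord, hm, pow_one]
    have hline' : (g : G) * x * (g : G)⁻¹ ∈ Subgroup.zpowers x := by
      have := congrArg (· ^ m) e'
      simp only [conj_pow, hxm] at this
      rw [this]
      exact pow_mem (pow_mem (Subgroup.mem_zpowers x) _) _
    have hq : q = q' := by
      have h1 : ((q'.out : L) : L ⧸ H) = ((q.out : L) : L ⧸ H) := QuotientGroup.eq.2 (hline g hline')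
      simpa using h1.symm
    subst hq
    refine Prod.ext rfl (Fin.ext ?_)
    have e3 := mul_left_cancel (mul_right_cancel e)
    have := pow_inj_mod.1 e3
    rw [hord, Nat.mod_eq_of_lt (by have := i.2; omega), Nat.mod_eq_of_lt (by have := j.2; omega)] at this
    simpa using this
  have hns : ∀ q, f q ≠ 1 := fun q h => by
    have h1 := congrArg Subtype.val h
    simp only [f, OneMemClass.coe_one, conj_eq_one_iff] at h1
    have h2 := orderOf_dvd_of_pow_eq_one h1
    rw [hord] at h2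
    exact hne q.2 h2
  have := Fintype.card_lt_of_injective_of_notMem f hinj (b := 1) (by
    rintro ⟨q, hq⟩; exact hns q hq)
  rw [Fintype.card_prod, Fintype.card_fin, ← Nat.card_eq_fintype_card, ← Nat.card_eq_fintype_card,
    ← Subgroup.index_eq_card] at this
  exact this

end Cfsg.Agent.Lib.OddOrder.PF12.Local
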