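import Cfsg.Agent.Lib.OddOrder.TypeOne
import Cfsg.Agent.Lib.OddOrder.PF12.Local
import Cfsg.Agent.Lib.OddOrder.Cyclic
import Cfsg.Agent.Lib.OddOrder.PF12.Config
import Cfsg.Agent.Lib.OddOrder.PF12.Contra

/-!
# Peterfalvi (12.7): a maximal subgroup of type I is a Frobenius group

Owner: helper8.
-/

set_option autoImplicit false

namespace Cfsg.Agent.Lib.OddOrder.PF12.Main

open scoped Classical commutatorElement IsMulCommutative
open Cfsg.Agent.Lib.OddOrder.Interface
open Cfsg.Agent.Lib.OddOrder.PF12.Local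

universe u

variable {G : Type u} [Group G] [Finite G]

theorem conj_normalizer {L H : Subgroup G} (hn : L ≤ Subgroup.normalizer (H : Set G)) {g a : G}
    (hg : g ∈ L) (ha : a ∈ H) : g * a * g⁻¹ ∈ H :=
  (Subgroup.mem_normalizer_iff.1 (hn hg) a).1 ha

/-- For a Frobenius group the index of the kernel divides the exponent of the quotient. -/
theorem index_dvd_exponent {L : Subgroup G} (hI : Cfsg.Agent.Lib.OddOrder.TypeOne.IsTypeI L)
    (hfrob : ∀ x ∈ Cfsg.fittingHallOf L, x ≠ 1 →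
      L ⊓ Subgroup.centralizer ({x} : Set G) ≤ Cfsg.fittingHallOf L) :
    (Cfsg.fittingHall L).index ∣ Monoid.exponent (L ⧸ Cfsg.fittingHall L) := by
  have hC := Coherent.centralizer_le hfrob
  have hne : Cfsg.fittingHall L ≠ ⊥ := hI.1.2.2.1
  have hodd : Odd (Nat.card L) := hI.1.2.1
  obtain ⟨-, -, -, -, U, -, hUc, -, -⟩ := hI.1
  have hfix : Group.IsFixFree U (Cfsg.fittingHall L) := by
    refine ⟨by rw [Subgroup.normalizer_eq_top]; exact le_top, fun a ha ha1 h hh hah => ?_⟩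
    by_contra h1
    exact ha1 (Subgroup.disjoint_def.1 hUc.disjoint
      (hC h hh h1 (Subgroup.mem_centralizer_singleton_iff.2 hah)) ha)
  rw [hUc.symm.index_eq_card, ← Monoid.exponent_eq_of_mulEquiv hUc.symm.QuotientMulEquiv.symm]
  refine Group.card_dvd_exponent fun r hr hrd P => ?_
  haveI := Fact.mk hr
  have hr2 : r ≠ 2 := fun h2 => Nat.not_even_iff_odd.2 hodd
    (even_iff_two_dvd.2 (h2 ▸ hrd.trans (Subgroup.card_subgroup_dvd_card U)))
  have := Group.isCyclic_of_pGroup hr2 (P.2.map U.subtype)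
    (hfix.mono (Subgroup.map_subtype_le _)) hne (Basic.fittingHall_spec L).1
  exact isCyclic_of_surjective _
    ((P : Subgroup U).equivMapOfInjective _ U.subtype_injective).symm.surjective

/-- An element of `L` of order prime to the index of `L_F` lies in `L_F`. -/
theorem mem_fittingHallOf {L : Subgroup G} {g : G} (hg : g ∈ L)
    (hcop : (orderOf g).Coprime (Cfsg.fittingHall L).index) : g ∈ Cfsg.fittingHallOf L := by
  refine (Avg.mem_fittingHall (x := (⟨g, hg⟩ : L))).1 ?_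
  rw [← QuotientGroup.eq_one_iff, ← orderOf_eq_one_iff]
  refine Nat.eq_one_of_dvd_coprimes hcop ?_
    (Subgroup.index_eq_card (Cfsg.fittingHall L) ▸ orderOf_dvd_natCard _)
  have := orderOf_map_dvd (QuotientGroup.mk' (Cfsg.fittingHall L)) (⟨g, hg⟩ : L)
  rwa [Subgroup.orderOf_mk] at this

/-- A `p`-element of `L` lies in `L_F` when `p` divides its order. -/
theorem mem_of_prime {L : Subgroup G} {g : G} {p : ℕ} (hp : p.Prime)
    (hd : p ∣ Nat.card (Cfsg.fittingHallOf L)) (hg : g ∈ L) (hgp : g ^ p = 1) :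
    g ∈ Cfsg.fittingHallOf L := by
  refine mem_fittingHallOf hg (Nat.Coprime.coprime_dvd_left (orderOf_dvd_of_pow_eq_one hgp) ?_)
  rw [Cfsg.fittingHallOf, Subgroup.card_map_of_injective L.subtype_injective] at hd
  exact (Basic.fittingHall_spec L).2.coprime_dvd_left hd

theorem arith_main {e p : ℕ} (hp : p.Prime) (hp2 : p ≠ 2) (he2 : 2 ≤ e) (heo : Odd e) (hep : e < p)
    (hdvd : (e : ℤ) ∣ (p : ℤ) ^ 2 - 1) {a : ℤ} (ha : (p : ℤ) ∣ a - e) :
    (e : ℤ) * (p + 1) < a ^ 2 * p := by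
  have h2e : (2 : ℤ) ≤ e := by exact_mod_cast he2
  have hpe : (e : ℤ) < p := by exact_mod_cast hep
  by_cases hbig : (e : ℤ) ≤ |a|
  · have h1 : (e : ℤ) ^ 2 ≤ a ^ 2 := by
      rw [← sq_abs a]; exact pow_le_pow_left₀ (by omega) hbig 2
    nlinarith [mul_le_mul_of_nonneg_right h1 (show (0 : ℤ) ≤ p by omega),
      mul_le_mul_of_nonneg_right h2e (show (0 : ℤ) ≤ (e : ℤ) * p by positivity),
      mul_le_mul_of_nonneg_left hpe.le (show (0 : ℤ) ≤ e by omega),
      mul_lt_mul_of_pos_left (show (1 : ℤ) < p by omega) (show (0 : ℤ) < e by omega)]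
  obtain ⟨h1, h2⟩ := abs_lt.1 (not_le.1 hbig)
  obtain ⟨t, ht⟩ := ha
  have ht0 : t < 0 := by nlinarith
  have ht2 : -1 ≤ t := by nlinarith
  obtain rfl : t = -1 := by omega
  have ha' : a = (e : ℤ) - p := by linarith
  have hdvd2 : (e : ℤ) ∣ a ^ 2 - 1 := by
    rw [show a ^ 2 - 1 = ((p : ℤ) ^ 2 - 1) + e * (e - 2 * p) by rw [ha']; ring]
    exact dvd_add hdvd (dvd_mul_right _ _)
  have hne : a ≠ -1 := by
    intro h
    obtain ⟨k, hk⟩ := heo
    have := hp.eq_two_or_odd.resolve_left hp2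
    omega
  have hpos : (0 : ℤ) < a ^ 2 - 1 := by nlinarith [show a ≤ -2 by omega]
  have := Int.le_of_dvd hpos hdvd2
  nlinarith [mul_le_mul_of_nonneg_right (show (e : ℤ) + 1 ≤ a ^ 2 by omega)
    (show (0 : ℤ) ≤ p by omega)]

/-- (12.8)-(12.11): the smallest witness yields a configuration. -/
theorem exists_config (hG : Cfsg.IsMinSimpleOddOrder G) (hB : PF8.BG16 G)
    (h17 : PF8.Step_8_17 G) (hV : PF12.NoTypeV G) (h34 : PF12.TypeThreeFourCyclic G)
    (hσ : PF12.SigmaCover G) {p : ℕ} {M A : Subgroup G} (w : Witness p M A)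
    (hmin : ∀ (q : ℕ) (N B : Subgroup G), Witness q N B → p ≤ q) :
    ∃ (L : Subgroup G) (x y₀ : G), Config p M L x y₀ := by
  have hp := w.prime
  haveI := Fact.mk hp
  haveI := w.comm
  have hM := w.coatom
  have hI := w.typeI
  set K := Cfsg.fittingHallOf M with hKdef
  have hKn : M ≤ Subgroup.normalizer (K : Set G) := Basic.fittingHallOf_normal M
  have hKne : K ≠ ⊥ := PF8.Dade.fittingHallOf_ne_bot hB hM
  have hKnil : Group.IsNilpotent K := Basic.fittingHallOf_isNilpotent M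
  have hpA : p ∣ Nat.card A := by rw [w.card]; exact dvd_pow_self p two_ne_zero
  have hp2 : p ≠ 2 := MinSimple.ne_two_of_dvd hG (hpA.trans A.card_subgroup_dvd_card)
  -- the subgroup `L`
  obtain ⟨L₀, hL₀, hpσ⟩ := hσ p hp (hpA.trans A.card_subgroup_dvd_card)
  obtain ⟨hcle, -, hcnd⟩ := SigmaHall.sigmaCore_isPiHallOf hG hL₀
  obtain ⟨S⟩ : Nonempty (Sylow p L₀) := inferInstance
  obtain ⟨T⟩ : Nonempty (Sylow p (Cfsg.sigmaCore L₀)) := inferInstance
  have hidx : ¬ p ∣ (Cfsg.sigmaCore L₀).index := by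
    rw [← Subgroup.relIndex_mul_index hcle]
    intro h
    rcases hp.dvd_mul.1 h with h | h
    · exact hcnd p hp hpσ h
    · exact Sigma.not_dvd_index hpσ S (h.trans (Subgroup.index_dvd_of_le (Subgroup.map_subtype_le _)))
  have hT : ¬ p ∣ ((T : Subgroup (Cfsg.sigmaCore L₀)).map (Cfsg.sigmaCore L₀).subtype).index := by
    rw [Subgroup.index_map_subtype]
    intro h
    exact (hp.dvd_mul.1 h).elim T.not_dvd_index hidx
  set Q : Sylow p G := (T.2.map (Cfsg.sigmaCore L₀).subtype).toSylow hT with hQ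
  obtain ⟨R, hR⟩ := w.isPGroup.exists_le_sylow
  obtain ⟨g, hg⟩ := MulAction.exists_smul_eq G Q R
  set L := L₀.map (MulAut.conj g).toMonoidHom with hLdef
  have hL : IsCoatom L := PF8.Conj.im_isCoatom (MulAut.conj g) hL₀
  have hcore : Cfsg.typeCore L =
      (Cfsg.sigmaCore L₀).map (MulAut.conj g).toMonoidHom := by
    rw [← hB.core_eq L₀ hL₀]
    exact (PF8.Conj.im_typeCore (MulAut.conj g) L₀).symm
  have hAcore : A ≤ Cfsg.typeCore L := by
    intro a ha
    have h1 : a ∈ (g • Q : Sylow p G).toSubgroup := hg ▸ hR ha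
    rw [Sylow.coe_subgroup_smul] at h1
    obtain ⟨b, hb, hba⟩ := h1
    rw [hcore]
    exact ⟨b, Subgroup.map_subtype_le _ hb, hba⟩
  have hncM : ∀ h : G, L.map (MulAut.conj h).toMonoidHom ≠ M := by
    intro h e
    have h1 := PF8.Conj.im_card (MulAut.conj h) (Cfsg.typeCore L)
    rw [PF8.Conj.im_typeCore] at h1
    rw [show PF8.Conj.im (MulAut.conj h) L = M from e, Avg.typeCore_eq hI] at h1
    exact w.not_dvd (h1 ▸ hpA.trans (Subgroup.card_dvd_of_le hAcore))
  have hncL : ∀ h : G, M.map (MulAut.conj h).toMonoidHom ≠ L := by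
    intro h e
    refine hncM h⁻¹ ?_
    rw [← e, Subgroup.map_map]
    convert Subgroup.map_id M
    ext z
    simp [mul_assoc]
  -- the element `x`
  have hcopAK : (Nat.card A).Coprime (Nat.card K) := by
    rw [w.card]; exact (hp.coprime_iff_not_dvd.2 w.not_dvd).pow_left 2
  obtain ⟨x, ⟨hxA, hx1⟩, c, hcK, hxc, hcn⟩ : ∃ x : G, (x ∈ A ∧ x ≠ 1) ∧
      ∃ c ∈ K, x * c = c * x ∧ c ∉ ⁅K, K⁆ := by
    by_contra! hall
    have hgen := Coprime.iSup_centralizer_eq w.not_isCyclic (w.le.trans hKn) hcopAK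
    haveI := hKnil
    haveI : Nontrivial K := (Subgroup.nontrivial_iff_ne_bot K).2 hKne
    haveI : Group.IsSolvable K := inferInstance
    refine (Group.IsSolvable.commutator_lt_top_of_nontrivial K).ne (eq_top_iff.2 fun z _ => ?_)
    have hle : K ≤ ⁅K, K⁆ := hgen.ge.trans (iSup₂_le fun a ha b hb =>
      hall a ha b hb.1 (Subgroup.mem_centralizer_singleton_iff.1 hb.2).symm)
    obtain ⟨z', hz', e⟩ : (z : G) ∈ (commutator K).map K.subtype := by
      rw [commutator_def, Subgroup.map_commutator, ← MonoidHom.range_eq_map, Subgroup.range_subtype]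
      exact hle z.2
    rwa [K.subtype_injective e] at hz'
  have hxord : orderOf x = p := orderOf_eq_prime (w.pow x hxA) hx1
  have hxAM : x ∈ Cfsg.Agent.Lib.OddOrder.TypeOne.typeA M :=
    (Avg.mem_typeA hI).2 ⟨w.le hxA, hx1, c, hcK, fun e => hcn (e ▸ one_mem _), hxc⟩
  have hxA1L : x ∈ Cfsg.typeA1 L := ⟨hAcore hxA, hx1⟩
  obtain ⟨hCL, hCM⟩ := (h17 L M hL hM hncL).2.1 x ⟨hxA1L, hxAM⟩
  have hxAL : x ∈ Cfsg.Agent.Lib.OddOrder.TypeOne.typeA L := PF8.Dade.typeA1_subset hB hL hxA1L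
  obtain ⟨N, -, hNuniq⟩ := ((hB.embed L hL _ (Or.inl rfl)).2.1 x hxAL hCL).2
  have huniq : ∀ N' : Subgroup G, IsCoatom N' →
      Subgroup.centralizer ({x} : Set G) ≤ N' → N' = M := fun N' h1 h2 =>
    (hNuniq N' ⟨h1, h2⟩).trans (hNuniq M ⟨hM, hCM⟩).symm
  obtain ⟨hWc, -, -, -, -, -, -⟩ := (hB.embed L hL _ (Or.inl rfl)).2.2 x hxAL hCL M hM hCM
  have hAL : A ≤ L := hAcore.trans (PF8.Dade.typeCore_le L)
  have hAW : A ≤ L ⊓ M := le_inf hAL w.le
  have hnotTI : ∀ F : Subgroup G, F ≤ L → L ≤ Subgroup.normalizer (F : Set G) → x ∈ F →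
      ¬ Cfsg.IsTISubset (F : Set G) := by
    intro F hF hn hxF hTI
    refine hCL ((cent_le_normalizer_of_TI hTI hxF hx1).trans (le_of_eq ?_))
    exact MinSimple.normalizer_eq_of_coatom hG hL hF
      (fun e => hx1 (Subgroup.mem_bot.1 (e ▸ hxF))) hn
  -- `L` is of type I
  have hIL : Cfsg.Agent.Lib.OddOrder.TypeOne.IsTypeI L := by
    rcases hB.types L hL with h | h | h
    · exact h
    · exfalso
      obtain ⟨W₁, U, W₂, hP⟩ := PF8.TypeP.isOfTypeP_of (Or.inl h)
      have hc := (PF8.TypeP.step_8_5.typeII L hL W₁ U W₂ hP h).2.2.2.2.2.2.2.2.2.2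
      refine hnotTI _ (Subgroup.map_subtype_le _) (Basic.fittingOf_normal L) ?_
        (PF8.TypeP.II_facts hP h).2.2.1
      have hm := hAcore hxA
      rw [hc] at hm
      exact Basic.fittingHallOf_le_fittingOf L hm
    · exfalso
      have h34' : Cfsg.IsOfTypeIII L ∨ Cfsg.IsOfTypeIV L := by
        rcases h with h | h | h
        · exact Or.inl h
        · exact Or.inr h
        · exact absurd h (hV L hL)
      obtain ⟨W₁, U, W₂, hP⟩ := PF8.TypeP.isOfTypeP_of
        (h34'.elim (fun k => Or.inr (Or.inl k)) fun k => Or.inr (Or.inr (Or.inl k)))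
      haveI := h34 L W₁ U W₂ hL hP h34'
      have hTI : Cfsg.IsTISubset (Cfsg.fittingOf L : Set G) :=
        h34'.elim (fun k => (PF8.TypeP.III_facts hP k).2.2.1) fun k => (PF8.TypeP.IV_facts hP k).2.2.1
      have hAd : A ≤ ⁅L, L⁆ := hAcore.trans (PF8.TypeP.typeCore_bounds hP).2
      by_cases hd : p ∣ Nat.card (Cfsg.fittingHallOf L)
      · exact hnotTI _ (Subgroup.map_subtype_le _) (Basic.fittingOf_normal L)
          (Basic.fittingHallOf_le_fittingOf L (mem_of_prime hp hd (hAL hxA) (w.pow x hxA))) hTI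
      · refine w.not_isCyclic (isCyclic_of_compl hP.U_compl
          (Subgroup.commutator_le_self L |>.trans (Basic.fittingHallOf_normal L)) hAd ?_)
        refine Basic.inf_eq_bot_of_coprime ?_
        rw [w.card]
        exact (hp.coprime_iff_not_dvd.2 hd).pow_left 2
  set H := Cfsg.fittingHallOf L with hHdef
  have hAH : A ≤ H := by rw [hHdef, ← Avg.typeCore_eq hIL]; exact hAcore
  have hHn : L ≤ Subgroup.normalizer (H : Set G) := Basic.fittingHallOf_normal L
  have hpH : p ∣ Nat.card H := hpA.trans (Subgroup.card_dvd_of_le hAH)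
  have hnT : ¬ Cfsg.IsTISubset (H : Set G) :=
    hnotTI H (Subgroup.map_subtype_le _) hHn (hAH hxA)
  have hKL : K ⊓ L = ⊥ := by
    rw [eq_bot_iff, ← hWc.2.2.1]
    exact le_inf inf_le_left (le_inf inf_le_right (inf_le_left.trans hWc.1))
  -- the abelian case
  have habel : (IsMulCommutative H ∧ Cfsg.RankLE 2 H) →
      L ≤ Subgroup.normalizer (A : Set G) := by
    rintro ⟨hab, hrk⟩
    set Ω : Subgroup H :=
      { carrier := {a | a ^ p = 1}
        one_mem' := one_pow p
        mul_mem' := fun {a b} ha hb => by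
          show (a * b) ^ p = 1
          rw [(show Commute a b from hab.is_comm.comm a b).mul_pow, ha, hb, one_mul]
        inv_mem' := fun {a} ha => by show a⁻¹ ^ p = 1; rw [inv_pow, ha, inv_one] } with hΩ
    haveI := hab
    have hle : Nat.card Ω ≤ p ^ 2 := hrk p hp Ω inferInstance fun a ha => ha
    have hAΩ : A.subgroupOf H ≤ Ω := fun a ha => Subtype.ext (by
      rw [Subgroup.coe_pow]; exact w.pow _ ha)
    have heq : A.subgroupOf H = Ω := Subgroup.eq_of_le_of_card_ge hAΩ (by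
      rwa [Nat.card_congr (Subgroup.subgroupOfEquivOfLe hAH).toEquiv, w.card])
    have hmem : ∀ a : G, a ∈ A ↔ a ∈ H ∧ a ^ p = 1 := by
      refine fun a => ⟨fun ha => ⟨hAH ha, w.pow a ha⟩, fun h => ?_⟩
      have hm : (⟨a, h.1⟩ : H) ∈ Ω := Subtype.ext (by rw [Subgroup.coe_pow]; exact h.2)
      rw [← heq] at hm
      exact hm
    intro l hl
    rw [Subgroup.mem_normalizer_iff]
    intro a
    rw [hmem, hmem, conj_pow, conj_eq_one_iff, ← Subgroup.mem_normalizer_iff.1 (hHn hl) a]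
  -- `L` is a Frobenius group
  have hfrob : ∀ z ∈ H, z ≠ 1 → L ⊓ Subgroup.centralizer ({z} : Set G) ≤ H := by
    by_contra hno
    obtain ⟨q, B, wB⟩ := exists_witness hL hIL hno
    haveI := wB.comm
    haveI := Fact.mk wB.prime
    have hpq : p < q := lt_of_le_of_ne (hmin _ _ _ wB) fun e => wB.not_dvd (e ▸ hpH)
    rcases hIL.2 with h | ⟨hab, hrk, -⟩ | ⟨hdvd, -⟩
    · exact hnT h
    · have hnA := habel ⟨hab, hrk⟩
      obtain ⟨hemb1, hemb2, -⟩ := hB.embed L hL _ (Or.inl rfl)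
      refine wB.not_isCyclic (Group.isCyclic_of_commutative (A := B) (K := K) ⟨?_, ?_⟩ hKne hKnil)
      · intro b hb
        have hcomm := commute_of_big_prime hp wB.prime hp2 hpq w.card (wB.pow b hb)
          fun a ha => conj_normalizer hnA (wB.le hb) ha
        exact hKn (hCM (Subgroup.mem_centralizer_singleton_iff.2 (hcomm x hxA)))
      · intro b hb hb1 k hk hbk
        have hcomm := commute_of_big_prime hp wB.prime hp2 hpq w.card (wB.pow b hb)
          fun a ha => conj_normalizer hnA (wB.le hb) ha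
        have hbA : b ∈ Cfsg.Agent.Lib.OddOrder.TypeOne.typeA L :=
          (Avg.mem_typeA hIL).2 ⟨wB.le hb, hb1, x, hAH hxA, hx1, hcomm x hxA⟩
        have hbL : Subgroup.centralizer ({b} : Set G) ≤ L := by
          by_contra hc
          have h1 := ((Avg.mem_typeA1 hIL).1 (hemb2 b hbA hc).1).1
          refine wB.not_dvd ?_
          rw [← orderOf_eq_prime (wB.pow b hb) hb1, ← hHdef,
            show orderOf b = orderOf (⟨b, h1⟩ : H) from (Subgroup.orderOf_mk _ _).symm]
          exact orderOf_dvd_natCard _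
        exact Subgroup.mem_bot.1 (hKL.le ⟨hk,
          hbL (Subgroup.mem_centralizer_singleton_iff.2 hbk.symm)⟩)
    · obtain ⟨b, hbB, hb1⟩ := B.bot_or_exists_ne_one.resolve_left fun e => wB.not_isCyclic (by
        rw [e]; infer_instance)
      have hbord : orderOf b = q := orderOf_eq_prime (wB.pow b hbB) hb1
      have hq1 : q ∣ Monoid.exponent (L ⧸ Cfsg.fittingHall L) := by
        have hnb : ((⟨b, wB.le hbB⟩ : L) : L ⧸ Cfsg.fittingHall L) ≠ 1 := by
          rw [ne_eq, QuotientGroup.eq_one_iff, Avg.mem_fittingHall]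
          intro h1
          refine wB.not_dvd ?_
          rw [← hbord, ← hHdef,
            show orderOf b = orderOf (⟨b, h1⟩ : H) from (Subgroup.orderOf_mk _ _).symm]
          exact orderOf_dvd_natCard _
        have ho := orderOf_eq_prime (p := q) (by
          rw [← QuotientGroup.mk_pow, show (⟨b, wB.le hbB⟩ : L) ^ q = 1 from
            Subtype.ext (by rw [Subgroup.coe_pow]; exact wB.pow b hbB), QuotientGroup.mk_one]) hnb
        rw [← ho]
        exact Monoid.order_dvd_exponent _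
      have := Nat.le_of_dvd (by have := hp.two_le; omega) (hq1.trans (hdvd p hp hpH))
      omega
  -- `W = L ⊓ M` lies in `H`
  obtain ⟨W₀, hW₀, hW₀f, hW₀ex⟩ := exists_fpf hI hWc
  have hWH : L ⊓ M ≤ H := by
    have key : ∀ r : ℕ, r.Prime → r ∣ Nat.card ↥(L ⊓ M) → r ∣ Nat.card H := by
      intro r hr hrd
      by_contra hrH
      haveI := Fact.mk hr
      obtain ⟨z, hz, hzord⟩ := hW₀ex r hr hrd
      obtain ⟨y, hy, hyord⟩ := hW₀ex p hp (hpA.trans (Subgroup.card_dvd_of_le hAW))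
      have hyp : y ^ p = 1 := hyord ▸ pow_orderOf_eq_one y
      set X := W₀ ⊓ H with hX
      have hyX : y ∈ X := ⟨hy, mem_of_prime hp hpH (hW₀ hy).1 hyp⟩
      have hXnil : Group.IsNilpotent X := by
        haveI := Basic.fittingHallOf_isNilpotent L
        exact _root_.Group.nilpotent_of_mulEquiv
          (Subgroup.subgroupOfEquivOfLe (inf_le_right : X ≤ H))
      haveI := hXnil
      obtain ⟨P⟩ : Nonempty (Sylow p X) := inferInstance
      haveI hPn : (P : Subgroup X).Normal := inferInstance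
      have hPc : IsCyclic ((P : Subgroup X).map X.subtype) :=
        Group.isCyclic_of_pGroup hp2 (P.2.map X.subtype)
          (hW₀f.mono ((Subgroup.map_subtype_le _).trans inf_le_left)) hKne hKnil
      have hin : ∀ u ∈ X, u ^ p = 1 → u ∈ (P : Subgroup X).map X.subtype := by
        intro u hu hup
        refine ⟨⟨u, hu⟩, ?_, rfl⟩
        show (⟨u, hu⟩ : X) ∈ (P : Subgroup X)
        rw [← QuotientGroup.eq_one_iff (N := (P : Subgroup X)), ← orderOf_eq_one_iff]
        refine Nat.eq_one_of_dvd_coprimes (hp.coprime_iff_not_dvd.2 P.not_dvd_index)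
          (orderOf_dvd_of_pow_eq_one ?_)
          (Subgroup.index_eq_card (P : Subgroup X) ▸ orderOf_dvd_natCard _)
        rw [← QuotientGroup.mk_pow, show (⟨u, hu⟩ : X) ^ p = 1 from
          Subtype.ext (by rw [Subgroup.coe_pow]; exact hup), QuotientGroup.mk_one]
      have hzy : z ∈ Subgroup.normalizer (Subgroup.zpowers y : Set G) := by
        set P' := (P : Subgroup X).map X.subtype
        haveI := hPc
        have huniq' : ∀ u ∈ X, orderOf u = p → Subgroup.zpowers u = Subgroup.zpowers y := by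
          intro u hu huord
          have hu' := hin u hu (huord ▸ pow_orderOf_eq_one u)
          have hy' := hin y hyX hyp
          exact Cfsg.Agent.Lib.OddOrder.Cyclic.eq_of_card_eq_of_isCyclic (W := P') (Subgroup.zpowers_le.2 hu')
            (Subgroup.zpowers_le.2 hy') (by rw [Nat.card_zpowers, Nat.card_zpowers, huord, hyord])
        have hzL : z ∈ L := (hW₀ hz).1
        have hconj : z * y * z⁻¹ ∈ X :=
          ⟨W₀.mul_mem (W₀.mul_mem hz hy) (W₀.inv_mem hz), conj_normalizer hHn hzL hyX.2⟩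
        have e := huniq' _ hconj (by rw [← hyord]; exact orderOf_injective (MulAut.conj z).toMonoidHom (MulAut.conj z).injective y)
        rw [Subgroup.mem_normalizer_iff_map_conj_eq, MonoidHom.map_zpowers]
        exact e
      have hcomm := Group.commute_of_normalizes hW₀f hKne hKnil hp hr
        (fun e => hrH (e ▸ hpH)) hy hz hyord hzord hzy
      have hy1 : y ≠ 1 := fun e => hp.one_lt.ne (by rw [← hyord, e, orderOf_one])
      have hzH : z ∈ H := hfrob y hyX.2 hy1
        ⟨(hW₀ hz).1, Subgroup.mem_centralizer_singleton_iff.2 hcomm.symm.eq⟩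
      refine hrH ?_
      rw [← hzord, show orderOf z = orderOf (⟨z, hzH⟩ : H) from (Subgroup.orderOf_mk _ _).symm]
      exact orderOf_dvd_natCard _
    intro g hg
    refine mem_fittingHallOf hg.1 (Nat.coprime_of_dvd fun r hr h1 h2 => ?_)
    have h3 : r ∣ Nat.card ↥(L ⊓ M) := h1.trans (by
      rw [show orderOf g = orderOf (⟨g, hg⟩ : ↥(L ⊓ M)) from (Subgroup.orderOf_mk _ _).symm]
      exact orderOf_dvd_natCard _)
    have h4 := key r hr h3
    rw [hHdef, Cfsg.fittingHallOf, Subgroup.card_map_of_injective L.subtype_injective] at h4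
    exact hr.one_lt.ne' (Nat.eq_one_of_dvd_coprimes (Basic.fittingHall_spec L).2 h4 h2)
  -- `y₀`
  obtain ⟨y, hy, hyord⟩ := hW₀ex p hp (hpA.trans (Subgroup.card_dvd_of_le hAW))
  have hyp : y ^ p = 1 := hyord ▸ pow_orderOf_eq_one y
  have hxy : x * y = y * x := by
    obtain ⟨hpr, -, -⟩ := hB.cent M hM (L ⊓ M) (Or.inl ⟨hI, hWc⟩)
    obtain ⟨P⟩ : Nonempty (Sylow p ↥(L ⊓ M)) := inferInstance
    haveI : Group.IsNilpotent ↥(L ⊓ M) := by
      haveI := Basic.fittingHallOf_isNilpotent L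
      exact _root_.Group.nilpotent_of_mulEquiv (Subgroup.subgroupOfEquivOfLe hWH)
    haveI : (P : Subgroup ↥(L ⊓ M)).Normal := inferInstance
    have hin : ∀ u : ↥(L ⊓ M), u ^ p = 1 → u ∈ (P : Subgroup ↥(L ⊓ M)) := by
      intro u hup
      rw [← QuotientGroup.eq_one_iff (N := (P : Subgroup ↥(L ⊓ M))), ← orderOf_eq_one_iff]
      refine Nat.eq_one_of_dvd_coprimes (hp.coprime_iff_not_dvd.2 P.not_dvd_index)
        (orderOf_dvd_of_pow_eq_one ?_)
        (Subgroup.index_eq_card (P : Subgroup ↥(L ⊓ M)) ▸ orderOf_dvd_natCard _)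
      rw [← QuotientGroup.mk_pow, hup, QuotientGroup.mk_one]
    have h1 := (hpr p hp P).1.is_comm.comm
      ⟨⟨x, hAW hxA⟩, hin _ (Subtype.ext (by rw [Subgroup.coe_pow]; exact w.pow x hxA))⟩
      ⟨⟨y, hW₀ hy⟩, hin _ (Subtype.ext (by rw [Subgroup.coe_pow]; exact hyp))⟩
    exact congrArg (fun t : (P : Subgroup ↥(L ⊓ M)) => ((t : ↥(L ⊓ M)) : G)) h1
  -- the index
  set e := (Cfsg.fittingHall L).index with hedef
  have hcardH : Nat.card (Cfsg.fittingHall L) = Nat.card H :=
    (Subgroup.card_map_of_injective L.subtype_injective).symm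
  have he2 : 2 ≤ e := by
    have h0 : e ≠ 0 := Subgroup.index_ne_zero_of_finite
    have h1 : e ≠ 1 := fun h => hIL.1.2.2.2.1 (Subgroup.index_eq_one.1 h)
    omega
  have heo : Odd e := Odd.of_dvd_nat hIL.1.2.1 (Subgroup.index_dvd_card _)
  have hpo : p % 2 = 1 := hp.eq_two_or_odd.resolve_left hp2
  obtain ⟨hep, hedvd⟩ : e < p ∧ (e : ℤ) ∣ (p : ℤ) ^ 2 - 1 := by
    rcases hIL.2 with h | ⟨hab, hrk, -⟩ | ⟨hdvd, -⟩
    · exact absurd h hnT
    · have hnA := habel ⟨hab, hrk⟩
      have h1 : (e : ℤ) ∣ (Nat.card A : ℤ) - 1 := by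
        refine index_dvd (Cfsg.fittingHall L) hnA fun a ha ha1 g => ⟨fun h => ?_, fun h => ?_⟩
        · exact Avg.mem_fittingHall.2 (hfrob a (hAH ha) ha1
            ⟨g.2, Subgroup.mem_centralizer_singleton_iff.2 (mul_inv_eq_iff_eq_mul.1 h)⟩)
        · have h2 := hab.is_comm.comm ⟨(g : G), Avg.mem_fittingHall.1 h⟩ ⟨a, hAH ha⟩
          exact mul_inv_eq_iff_eq_mul.2 (congrArg (fun t : H => (t : G)) h2)
      rw [w.card, Nat.cast_pow] at h1
      have h2 := index_mul_lt (Cfsg.fittingHall L) hnA hxA hp hxord fun g hg => by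
        refine Avg.mem_fittingHall.2 (hWH ⟨g.2, ?_⟩)
        have hgM : M.map (MulAut.conj (g : G)).toMonoidHom = M := by
          refine huniq _ (PF8.Conj.im_isCoatom (MulAut.conj (g : G)) hM) fun z hz => ?_
          refine ⟨(g : G)⁻¹ * z * g, hCM (centralizer_conj hp hxord hg z hz), ?_⟩
          show (g : G) * ((g : G)⁻¹ * z * g) * (g : G)⁻¹ = z
          group
        rw [← MinSimple.normalizer_coatom hG hM]
        exact Subgroup.mem_normalizer_iff_map_conj_eq.2 hgM
      rw [w.card, ← hedef] at h2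
      have h3 : e < p + 2 := by
        by_contra h
        have h4 : (p + 2) * (p - 1) < p ^ 2 :=
          lt_of_le_of_lt (Nat.mul_le_mul_right _ (by omega)) h2
        have := hp.two_le
        obtain ⟨k, rfl⟩ : ∃ k, p = k + 1 := ⟨p - 1, by omega⟩
        simp only [Nat.add_sub_cancel] at h4
        nlinarith
      have hcop : ¬ p ∣ e := by
        intro h
        have := (Basic.fittingHall_spec L).2
        rw [hcardH] at this
        exact hp.one_lt.ne' (Nat.eq_one_of_dvd_coprimes this hpH h)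
      obtain ⟨k, hk⟩ := heo
      have h5 : e ≠ p := fun h => hcop (h ▸ dvd_rfl)
      exact ⟨by omega, h1⟩
    · have h1 : e ∣ p - 1 := (index_dvd_exponent hIL hfrob).trans (hdvd p hp hpH)
      refine ⟨lt_of_le_of_lt (Nat.le_of_dvd (by have := hp.two_le; omega) h1)
        (by have := hp.two_le; omega), ?_⟩
      have h2 : (e : ℤ) ∣ (p : ℤ) - 1 := by
        have := Int.natCast_dvd_natCast.2 h1
        rwa [Nat.cast_sub hp.one_le, Nat.cast_one] at this
      exact h2.trans ⟨(p : ℤ) + 1, by ring⟩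
  refine ⟨L, x, y, hp, hM, hL, hI, hIL, hfrob, hncM, hAH hxA, hxord, w.le hxA, hCM, hCL, huniq,
    ⟨c, hcK, hxc, hcn⟩, w.not_dvd, ?_, (hW₀ hy).2, hyord, hxy, ?_, ?_,
    fun a ha => arith_main hp hp2 he2 heo hep hedvd ha⟩
  · have h1 : (Cfsg.fittingHall M).index = Nat.card ↥(L ⊓ M) := by
      rw [← Basic.isComplIn_relIndex hWc, Cfsg.fittingHallOf, Basic.relIndex_map_subtype]
    rw [h1, hcardH]
    exact Nat.le_of_dvd Nat.card_pos (Subgroup.card_dvd_of_le hWH)
  · exact fun k hk h => hW₀f.2 y hy (fun e => hp.one_lt.ne (by rw [← hyord, e, orderOf_one])) k hk h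
  · rw [hcardH, ← hedef]
    have h1 : p ^ 2 ≤ Nat.card H := w.card ▸ Nat.le_of_dvd Nat.card_pos (Subgroup.card_dvd_of_le hAH)
    obtain ⟨k, hk⟩ := heo
    have h2 : e + 1 < p := by omega
    exact lt_of_lt_of_le (Nat.pow_lt_pow_left h2 two_ne_zero) h1

/-- (12.7). -/
theorem step_12_7 (hG : Cfsg.IsMinSimpleOddOrder G) (hB : PF8.BG16 G)
    (h15 : PF8.Step_8_15 G) (h17 : PF8.Step_8_17 G) (hV : PF12.NoTypeV G)
    (h34 : PF12.TypeThreeFourCyclic G) (hσ : PF12.SigmaCover G) : PF12.Step_12_7 G := by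
  intro M hM hI
  by_contra hno
  obtain ⟨p₀, A₀, hw₀⟩ := exists_witness hM hI hno
  have hex : ∃ p : ℕ, ∃ N B : Subgroup G, Witness p N B := ⟨p₀, M, A₀, hw₀⟩
  obtain ⟨N, B, hw⟩ := Nat.find_spec hex
  obtain ⟨L, x, y, hC⟩ := exists_config hG hB h17 hV h34 hσ hw
    fun q N' B' h => Nat.find_min' hex ⟨N', B', h⟩
  haveI : Fintype G := Fintype.ofFinite G
  exact Contra.config_false hG hB h15 h17 hC

end Cfsg.Agent.Lib.OddOrder.PF12.Main
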