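import Cfsg.Agent.Lib.OddOrder.TypeOne
import Cfsg.Agent.Lib.OddOrder.PF12.Contra
import Cfsg.Agent.Lib.OddOrder.PF8.Dade
import Cfsg.Agent.Lib.Induced.CNContradiction

/-!
# Peterfalvi (12.17): not every maximal subgroup is of type I

Owner: helper8.
-/

set_option autoImplicit false

namespace Cfsg.Agent.Lib.OddOrder.PF12.NotAll

open scoped Classical
open Cfsg.Agent.Lib.OddOrder.Interface

universe u

variable {G : Type u} [Group G] [Finite G]

/-- (12.17). -/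
theorem step_12_17 (hG : Cfsg.IsMinSimpleOddOrder G) (hB : PF8.BG16 G) (h18 : PF8.Step_8_18 G)
    (h127 : PF12.Step_12_7 G) : PF12.Step_12_17 G := by
  unfold PF12.Step_12_17
  by_contra hcon
  push Not at hcon
  have hA : ∀ M : Subgroup G, IsCoatom M →
      Cfsg.Agent.Lib.OddOrder.TypeOne.typeA M = (Cfsg.fittingHallOf M : Set G) \ {1} := fun M hM =>
    Coherent.typeA_eq (hcon M hM) (h127 M hM (hcon M hM))
  have hcore : ∀ M : Subgroup G, IsCoatom M → Cfsg.typeCore M = Cfsg.fittingHallOf M :=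
    fun M hM => Avg.typeCore_eq (hcon M hM)
  have hcentL : ∀ M : Subgroup G, IsCoatom M → ∀ x ∈ Cfsg.fittingHallOf M, x ≠ 1 →
      Subgroup.centralizer ({x} : Set G) ≤ M := by
    intro M hM x hx hx1
    by_contra hc
    have hxA : x ∈ Cfsg.Agent.Lib.OddOrder.TypeOne.typeA M := by rw [hA M hM]; exact ⟨hx, hx1⟩
    obtain ⟨N, ⟨hN, hNc⟩, -⟩ := ((hB.embed M hM _ (Or.inl rfl)).2.1 x hxA hc).2
    obtain ⟨-, -, -, -, ⟨h1, h2⟩, -⟩ := (hB.embed M hM _ (Or.inl rfl)).2.2 x hxA hc N hN hNc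
    rw [hA N hN] at h1
    exact h2 ⟨(hcore N hN).symm ▸ h1.1, h1.2⟩
  have hne : ∀ M : Subgroup G, IsCoatom M → Cfsg.fittingHallOf M ≠ ⊥ := fun M hM =>
    PF8.Dade.fittingHallOf_ne_bot hB hM
  have hnorm : ∀ M : Subgroup G, IsCoatom M →
      Subgroup.normalizer (Cfsg.fittingHallOf M : Set G) = M := fun M hM =>
    MinSimple.normalizer_eq_of_coatom hG hM (Subgroup.map_subtype_le _) (hne M hM)
      (Basic.fittingHallOf_normal M)
  -- representatives of the classes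
  let S : Setoid {M : Subgroup G // IsCoatom M} :=
    { r := fun M N => ∃ g : G, M.1.map (MulAut.conj g).toMonoidHom = N.1
      iseqv := ⟨fun M => ⟨1, by convert Subgroup.map_id M.1; ext z; simp⟩,
        fun {M N} ⟨g, hg⟩ => ⟨g⁻¹, by
          rw [← hg, Subgroup.map_map]; convert Subgroup.map_id M.1; ext z; simp [mul_assoc]⟩,
        fun {M N P} ⟨g, hg⟩ ⟨h, hh⟩ => ⟨h * g, by
          rw [← hh, ← hg, Subgroup.map_map]; congr 1; ext z; simp [mul_assoc]⟩⟩ }
  let rep : Quotient S → Subgroup G := fun q => q.out.1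
  have hrep : ∀ q, IsCoatom (rep q) := fun q => q.out.2
  haveI : Nontrivial G := (MinSimple.isSimpleGroup hG).toNontrivial
  haveI := Fintype.ofFinite G
  refine Cfsg.Agent.Lib.Induced.CNContradiction.not_nilpotent_TI_partition hG.1
    (fun q => Cfsg.fittingHallOf (rep q)) (fun q => Basic.fittingHallOf_isNilpotent _)
    (fun q => hne _ (hrep q)) ?_ ?_ ?_ ?_ ?_
  · intro q g hg x hx hconj
    by_contra hx1
    have hxA : x ∈ Cfsg.Agent.Lib.OddOrder.TypeOne.typeA (rep q) := by rw [hA _ (hrep q)]; exact ⟨hx, hx1⟩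
    have hcA : g * x * g⁻¹ ∈ Cfsg.Agent.Lib.OddOrder.TypeOne.typeA (rep q) := by
      rw [hA _ (hrep q)]; exact ⟨hconj, fun e => hx1 (conj_eq_one_iff.1 e)⟩
    obtain ⟨m, hm, hmx⟩ := (hB.embed _ (hrep q) _ (Or.inl rfl)).1 x hxA g hcA
    have hc : m⁻¹ * g ∈ Subgroup.centralizer ({x} : Set G) := by
      refine Subgroup.mem_centralizer_singleton_iff.2 ?_
      calc m⁻¹ * g * x = m⁻¹ * (g * x * g⁻¹) * g := by group
        _ = m⁻¹ * (m * x * m⁻¹) * g := by rw [hmx]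
        _ = x * (m⁻¹ * g) := by group
    refine hg ?_
    rw [hnorm _ (hrep q)]
    simpa using mul_mem hm (hcentL _ (hrep q) x hx hx1 hc)
  · intro q x hx hx1 c hc
    exact h127 _ (hrep q) (hcon _ (hrep q)) x hx hx1 ⟨hcentL _ (hrep q) x hx hx1 hc, hc⟩
  · intro q e
    rw [hnorm _ (hrep q)] at e
    obtain ⟨-, -, -, h4, -⟩ := (hcon _ (hrep q)).1
    refine h4 (eq_top_iff.2 fun z _ => ?_)
    refine Avg.mem_fittingHall.2 ?_
    rw [← e]
    exact z.2
  · intro q q' hqq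
    rw [← hcore _ (hrep q), ← hcore _ (hrep q')]
    refine h18.core_coprime _ _ (hrep q) (hrep q') fun g hg => hqq ?_
    rw [← Quotient.out_eq q, ← Quotient.out_eq q']
    exact (Quotient.sound (show S.r q'.out q.out from ⟨g, hg⟩)).symm
  · intro x hx
    obtain ⟨M, hM, a, ha, r, hr, y, hxe⟩ := h18.cover_typeI hcon x hx
    obtain ⟨ha', ha1⟩ := (Avg.mem_typeA1 (hcon M hM)).1 ha
    rw [Contra.supportR_eq_bot (hcentL M hM a ha' ha1), Subgroup.mem_bot] at hr
    subst hr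
    rw [mul_one] at hxe
    set q : Quotient S := Quotient.mk S ⟨M, hM⟩
    obtain ⟨g, hg⟩ : ∃ g : G, M.map (MulAut.conj g).toMonoidHom = rep q := by
      obtain ⟨g, hg⟩ := Quotient.exact (Quotient.out_eq q).symm
      exact ⟨g, hg⟩
    refine ⟨q, g * y⁻¹, ?_⟩
    show (g * y⁻¹) * x * (g * y⁻¹)⁻¹ ∈ Cfsg.fittingHallOf (rep q)
    rw [← hg, ← PF8.Conj.im_fittingHallOf (MulAut.conj g) M]
    exact ⟨a, ha', by rw [hxe]; simp [mul_assoc]⟩

end Cfsg.Agent.Lib.OddOrder.PF12.NotAll
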