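import Cfsg.Agent.S1378
import Cfsg.Agent.Lib.OddOrder.PF8.Supports
import Cfsg.Agent.Lib.OddOrder.PF8.Cover
import Cfsg.Agent.Lib.OddOrder.PF12.Main
import Cfsg.Agent.Lib.OddOrder.PF12.NotAll

/-!
# Peterfalvi §12 assembled

What remains assumed: `BG16` (and `BG14` for the covering), no type V, `U` cyclic in types III, IV.

Owner: helper8.
-/

set_option autoImplicit false

namespace Cfsg.Agent.Lib.OddOrder.PF12.Final

open Cfsg.Agent.Lib.OddOrder.Interface

universe u

variable {G : Type u} [Group G] [Finite G]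

theorem sigmaCover (hG : Cfsg.IsMinSimpleOddOrder G) : PF12.SigmaCover G :=
  (Cfsg.Agent.S1378.result hG).1

/-- (12.6), statement S1542. -/
theorem coherence [Fintype G] (hG : Cfsg.IsMinSimpleOddOrder G) (hB : PF8.BG16 G) :
    PF12.Step_12_6 G :=
  Coherent.step_12_6 hG (PF8.Dade.step_8_15 hG hB)

/-- (12.7), statement S1540. -/
theorem typeI_frobenius (hG : Cfsg.IsMinSimpleOddOrder G) (hB : PF8.BG16 G)
    (hV : PF12.NoTypeV G) (h34 : PF12.TypeThreeFourCyclic G) : PF12.Step_12_7 G :=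
  Main.step_12_7 hG hB (PF8.Dade.step_8_15 hG hB) (PF8.Supports.step_8_17 hG hB) hV h34
    (sigmaCover hG)

/-- (12.17), statement S1541. -/
theorem not_all_typeI (hG : Cfsg.IsMinSimpleOddOrder G) (hB : PF8.BG16 G) (hC : PF8.BG14 G)
    (hV : PF12.NoTypeV G) (h34 : PF12.TypeThreeFourCyclic G) : PF12.Step_12_17 G :=
  NotAll.step_12_17 hG hB (PF8.Cover.step_8_18 hG hB hC) (typeI_frobenius hG hB hV h34)

end Cfsg.Agent.Lib.OddOrder.PF12.Final
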